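import Cfsg.Agent.Spor.B.Net

set_option autoImplicit false
set_option Elab.async false
set_option maxRecDepth 100000

namespace Cfsg.Agent.Spor.BC

open Cfsg.Agent.Comp.BN

theorem sat_rel_0_12 : relsC Cfsg.Agent.Spor.BC.act Cfsg.Agent.Spor.BC.PX.I 147456 18 [[0, 1, 0, 1, 0, 1], [0, 2, 0, 2], [0, 3, 0, 3], [0, 4, 0, 4], [0, 5, 0, 5], [0, 6, 0, 6], [0, 8, 0, 8], [0, 9, 0, 9], [0, 7, 0, 7], [1, 2, 1, 2, 1, 2], [1, 3, 1, 3], [1, 4, 1, 4], [1, 5, 1, 5], [1, 6, 1, 6], [1, 8, 1, 8], [1, 9, 1, 9], [1, 7, 1, 7], [2, 3, 2, 3, 2, 3], [2, 4, 2, 4], [2, 5, 2, 5], [2, 6, 2, 6], [2, 8, 2, 8], [2, 9, 2, 9], [2, 7, 2, 7], [3, 4, 3, 4, 3, 4], [3, 5, 3, 5], [3,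 6, 3, 6], [3, 8, 3, 8, 3, 8], [3, 9, 3, 9], [3, 7, 3, 7], [4, 5, 4, 5, 4, 5], [4, 6, 4, 6], [4, 8, 4, 8], [4, 9, 4, 9], [4, 7, 4, 7], [5, 6, 5, 6, 5, 6], [5, 8, 5, 8], [5, 9, 5, 9], [5, 7, 5, 7], [6, 8, 6, 8], [6, 9, 6, 9], [6, 7, 6, 7, 6, 7], [8, 9, 8, 9, 8, 9], [8, 7, 8, 7], [9, 7, 9, 7], [3, 2, 1, 3, 4, 5, 3, 8, 9, 3, 2, 1, 3, 4, 5, 3, 8, 9, 3, 2, 1, 3, 4, 5, 3, 8, 9, 3, 2, 1, 3, 4, 5, 3, 8, 9, 3, 2, 1, 3, 4, 5, 3, 8, 9, 3, 2, 1, 3, 4, 5, 3, 8, 9, 3, 2, 1, 3, 4, 5, 3, 8, 9, 3, 2, 1, 3, 4, 5, 3, 8, 9, 3, 2, 1, 3, 4, 5, 3, 8, 9, 3, 2, 1, 3, 4, 5, 3, 8, 9], [0, 1, 2, 3, 4, 5, 8, 0, 1, 2, 3, 4, 5, 8, 0, 1, 2, 3, 4, 5, 8, 0, 1, 2, 3, 4, 5, 8, 0,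 1, 2, 3, 4, 5, 8, 0, 1, 2, 3, 4, 5, 8, 0, 1, 2, 3, 4, 5, 8, 0, 1, 2, 3, 4, 5, 8, 0, 1, 2, 3, 4, 5, 8], [11, 9, 4, 8, 5, 1, 6, 9, 2, 7, 4, 5, 3, 1, 2, 1, 8, 6, 4, 3, 7, 9, 2, 6, 1, 7, 4, 5, 3, 8, 9, 3, 2, 4, 5, 8, 3, 2, 6], [13, 7, 2, 1, 5, 3, 8, 4, 6, 2, 3, 9, 4, 1, 7, 5, 8, 2, 4, 9, 6, 7, 1, 2, 8, 9, 1, 6, 5, 6, 7, 8, 3, 2, 5, 9, 8, 3, 4, 6], [15, 8, 6, 7, 4, 9, 3, 2, 3, 4, 8, 2, 9, 5, 4, 1, 3, 2, 5, 6, 7, 8, 9, 8, 3, 4, 2, 1, 5, 9, 8, 6, 2, 9, 1, 8, 7, 4, 3, 6, 2]] [12] = true :=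
  by decide +kernel

theorem sat_rel_0_13 : relsC Cfsg.Agent.Spor.BC.act Cfsg.Agent.Spor.BC.PX.I 147456 18 [[0, 1, 0, 1, 0, 1], [0, 2, 0, 2], [0, 3, 0, 3], [0, 4, 0, 4], [0, 5, 0, 5], [0, 6, 0, 6], [0, 8, 0, 8], [0, 9, 0, 9], [0, 7, 0, 7], [1, 2, 1, 2, 1, 2], [1, 3, 1, 3], [1, 4, 1, 4], [1, 5, 1, 5], [1, 6, 1, 6], [1, 8, 1, 8], [1, 9, 1, 9], [1, 7, 1, 7], [2, 3, 2, 3, 2, 3], [2, 4, 2, 4], [2, 5, 2, 5], [2, 6, 2, 6], [2, 8, 2, 8], [2, 9, 2, 9], [2, 7, 2, 7], [3, 4, 3, 4, 3, 4], [3, 5, 3, 5], [3, 6, 3, 6], [3, 8, 3, 8, 3, 8], [3, 9, 3, 9], [3, 7, 3, 7], [4, 5, 4, 5, 4, 5], [4, 6, 4, 6], [4, 8, 4, 8], [4, 9, 4, 9], [4, 7, 4, 7], [5, 6, 5, 6, 5, 6],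 [5, 8, 5, 8], [5, 9, 5, 9], [5, 7, 5, 7], [6, 8, 6, 8], [6, 9, 6, 9], [6, 7, 6, 7, 6, 7], [8, 9, 8, 9, 8, 9], [8, 7, 8, 7], [9, 7, 9, 7], [3, 2, 1, 3, 4, 5, 3, 8, 9, 3, 2, 1, 3, 4, 5, 3, 8, 9, 3, 2, 1, 3, 4, 5, 3, 8, 9, 3, 2, 1, 3, 4, 5, 3, 8, 9, 3, 2, 1, 3, 4, 5, 3, 8, 9, 3, 2, 1, 3, 4, 5, 3, 8, 9, 3, 2, 1, 3, 4, 5, 3, 8, 9, 3, 2, 1, 3, 4, 5, 3, 8, 9, 3, 2, 1, 3, 4, 5, 3, 8, 9, 3, 2, 1, 3, 4, 5, 3, 8, 9], [0, 1, 2, 3, 4, 5, 8, 0, 1, 2, 3, 4, 5, 8, 0, 1, 2, 3, 4, 5, 8, 0, 1, 2, 3, 4, 5, 8, 0, 1, 2, 3, 4, 5, 8, 0, 1, 2, 3, 4, 5, 8, 0, 1, 2, 3, 4, 5, 8, 0, 1, 2, 3, 4, 5, 8, 0, 1, 2, 3, 4, 5, 8], [11, 9, 4, 8, 5, 1, 6, 9, 2, 7, 4, 5, 3, 1, 2, 1, 8,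 6, 4, 3, 7, 9, 2, 6, 1, 7, 4, 5, 3, 8, 9, 3, 2, 4, 5, 8, 3, 2, 6], [13, 7, 2, 1, 5, 3, 8, 4, 6, 2, 3, 9, 4, 1, 7, 5, 8, 2, 4, 9, 6, 7, 1, 2, 8, 9, 1, 6, 5, 6, 7, 8, 3, 2, 5, 9, 8, 3, 4, 6], [15, 8, 6, 7, 4, 9, 3, 2, 3, 4, 8, 2, 9, 5, 4, 1, 3, 2, 5, 6, 7, 8, 9, 8, 3, 4, 2, 1, 5, 9, 8, 6, 2, 9, 1, 8, 7, 4, 3, 6, 2]] [13] = true :=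
  by decide +kernel

theorem sat_rel_0_14 : relsC Cfsg.Agent.Spor.BC.act Cfsg.Agent.Spor.BC.PX.I 147456 18 [[0, 1, 0, 1, 0, 1], [0, 2, 0, 2], [0, 3, 0, 3], [0, 4, 0, 4], [0, 5, 0, 5], [0, 6, 0, 6], [0, 8, 0, 8], [0, 9, 0, 9], [0, 7, 0, 7], [1, 2, 1, 2, 1, 2], [1, 3, 1, 3], [1, 4, 1, 4], [1, 5, 1, 5], [1, 6, 1, 6], [1, 8, 1, 8], [1, 9, 1, 9], [1, 7, 1, 7], [2, 3, 2, 3, 2, 3], [2, 4, 2, 4], [2, 5, 2, 5], [2, 6, 2, 6], [2, 8, 2, 8], [2, 9, 2, 9], [2, 7, 2, 7], [3, 4, 3, 4, 3, 4], [3, 5, 3, 5], [3, 6, 3, 6], [3, 8, 3, 8, 3, 8], [3, 9, 3, 9], [3, 7, 3, 7], [4, 5, 4, 5, 4, 5], [4, 6, 4, 6], [4, 8, 4, 8], [4, 9, 4, 9], [4, 7, 4, 7], [5, 6, 5, 6, 5, 6],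 [5, 8, 5, 8], [5, 9, 5, 9], [5, 7, 5, 7], [6, 8, 6, 8], [6, 9, 6, 9], [6, 7, 6, 7, 6, 7], [8, 9, 8, 9, 8, 9], [8, 7, 8, 7], [9, 7, 9, 7], [3, 2, 1, 3, 4, 5, 3, 8, 9, 3, 2, 1, 3, 4, 5, 3, 8, 9, 3, 2, 1, 3, 4, 5, 3, 8, 9, 3, 2, 1, 3, 4, 5, 3, 8, 9, 3, 2, 1, 3, 4, 5, 3, 8, 9, 3, 2, 1, 3, 4, 5, 3, 8, 9, 3, 2, 1, 3, 4, 5, 3, 8, 9, 3, 2, 1, 3, 4, 5, 3, 8, 9, 3, 2, 1, 3, 4, 5, 3, 8, 9, 3, 2, 1, 3, 4, 5, 3, 8, 9], [0, 1, 2, 3, 4, 5, 8, 0, 1, 2, 3, 4, 5, 8, 0, 1, 2, 3, 4, 5, 8, 0, 1, 2, 3, 4, 5, 8, 0, 1, 2, 3, 4, 5, 8, 0, 1, 2, 3, 4, 5, 8, 0, 1, 2, 3, 4, 5, 8, 0, 1, 2, 3, 4, 5, 8, 0, 1, 2, 3, 4, 5, 8], [11, 9, 4, 8, 5, 1, 6, 9, 2, 7, 4, 5, 3, 1, 2, 1, 8,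 6, 4, 3, 7, 9, 2, 6, 1, 7, 4, 5, 3, 8, 9, 3, 2, 4, 5, 8, 3, 2, 6], [13, 7, 2, 1, 5, 3, 8, 4, 6, 2, 3, 9, 4, 1, 7, 5, 8, 2, 4, 9, 6, 7, 1, 2, 8, 9, 1, 6, 5, 6, 7, 8, 3, 2, 5, 9, 8, 3, 4, 6], [15, 8, 6, 7, 4, 9, 3, 2, 3, 4, 8, 2, 9, 5, 4, 1, 3, 2, 5, 6, 7, 8, 9, 8, 3, 4, 2, 1, 5, 9, 8, 6, 2, 9, 1, 8, 7, 4, 3, 6, 2]] [14] = true :=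
  by decide +kernel

theorem sat_rel_0_15 : relsC Cfsg.Agent.Spor.BC.act Cfsg.Agent.Spor.BC.PX.I 147456 18 [[0, 1, 0, 1, 0, 1], [0, 2, 0, 2], [0, 3, 0, 3], [0, 4, 0, 4], [0, 5, 0, 5], [0, 6, 0, 6], [0, 8, 0, 8], [0, 9, 0, 9], [0, 7, 0, 7], [1, 2, 1, 2, 1, 2], [1, 3, 1, 3], [1, 4, 1, 4], [1, 5, 1, 5], [1, 6, 1, 6], [1, 8, 1, 8], [1, 9, 1, 9], [1, 7, 1, 7], [2, 3, 2, 3, 2, 3], [2, 4, 2, 4], [2, 5, 2, 5], [2, 6, 2, 6], [2, 8, 2, 8], [2, 9, 2, 9], [2, 7, 2, 7], [3, 4, 3, 4, 3, 4], [3, 5, 3, 5], [3, 6, 3, 6], [3, 8, 3, 8, 3, 8], [3, 9, 3, 9], [3, 7, 3, 7], [4, 5, 4, 5, 4, 5], [4, 6, 4, 6], [4, 8, 4, 8], [4, 9, 4, 9], [4, 7, 4, 7], [5, 6, 5, 6, 5, 6],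 [5, 8, 5, 8], [5, 9, 5, 9], [5, 7, 5, 7], [6, 8, 6, 8], [6, 9, 6, 9], [6, 7, 6, 7, 6, 7], [8, 9, 8, 9, 8, 9], [8, 7, 8, 7], [9, 7, 9, 7], [3, 2, 1, 3, 4, 5, 3, 8, 9, 3, 2, 1, 3, 4, 5, 3, 8, 9, 3, 2, 1, 3, 4, 5, 3, 8, 9, 3, 2, 1, 3, 4, 5, 3, 8, 9, 3, 2, 1, 3, 4, 5, 3, 8, 9, 3, 2, 1, 3, 4, 5, 3, 8, 9, 3, 2, 1, 3, 4, 5, 3, 8, 9, 3, 2, 1, 3, 4, 5, 3, 8, 9, 3, 2, 1, 3, 4, 5, 3, 8, 9, 3, 2, 1, 3, 4, 5, 3, 8, 9], [0, 1, 2, 3, 4, 5, 8, 0, 1, 2, 3, 4, 5, 8, 0, 1, 2, 3, 4, 5, 8, 0, 1, 2, 3, 4, 5, 8, 0, 1, 2, 3, 4, 5, 8, 0, 1, 2, 3, 4, 5, 8, 0, 1, 2, 3, 4, 5, 8, 0, 1, 2, 3, 4, 5, 8, 0, 1, 2, 3, 4, 5, 8], [11, 9, 4, 8, 5, 1, 6, 9, 2, 7, 4, 5, 3, 1, 2, 1, 8,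 6, 4, 3, 7, 9, 2, 6, 1, 7, 4, 5, 3, 8, 9, 3, 2, 4, 5, 8, 3, 2, 6], [13, 7, 2, 1, 5, 3, 8, 4, 6, 2, 3, 9, 4, 1, 7, 5, 8, 2, 4, 9, 6, 7, 1, 2, 8, 9, 1, 6, 5, 6, 7, 8, 3, 2, 5, 9, 8, 3, 4, 6], [15, 8, 6, 7, 4, 9, 3, 2, 3, 4, 8, 2, 9, 5, 4, 1, 3, 2, 5, 6, 7, 8, 9, 8, 3, 4, 2, 1, 5, 9, 8, 6, 2, 9, 1, 8, 7, 4, 3, 6, 2]] [15] = true :=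
  by decide +kernel

theorem sat_rel_0_16 : relsC Cfsg.Agent.Spor.BC.act Cfsg.Agent.Spor.BC.PX.I 147456 18 [[0, 1, 0, 1, 0, 1], [0, 2, 0, 2], [0, 3, 0, 3], [0, 4, 0, 4], [0, 5, 0, 5], [0, 6, 0, 6], [0, 8, 0, 8], [0, 9, 0, 9], [0, 7, 0, 7], [1, 2, 1, 2, 1, 2], [1, 3, 1, 3], [1, 4, 1, 4], [1, 5, 1, 5], [1, 6, 1, 6], [1, 8, 1, 8], [1, 9, 1, 9], [1, 7, 1, 7], [2, 3, 2, 3, 2, 3], [2, 4, 2, 4], [2, 5, 2, 5], [2, 6, 2, 6], [2, 8, 2, 8], [2, 9, 2, 9], [2, 7, 2, 7], [3, 4, 3, 4, 3, 4], [3, 5, 3, 5], [3, 6, 3, 6], [3, 8, 3, 8, 3, 8], [3, 9, 3, 9], [3, 7, 3, 7], [4, 5, 4, 5, 4, 5], [4, 6, 4, 6], [4, 8, 4, 8], [4, 9, 4, 9], [4, 7, 4, 7], [5, 6, 5, 6, 5, 6],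 [5, 8, 5, 8], [5, 9, 5, 9], [5, 7, 5, 7], [6, 8, 6, 8], [6, 9, 6, 9], [6, 7, 6, 7, 6, 7], [8, 9, 8, 9, 8, 9], [8, 7, 8, 7], [9, 7, 9, 7], [3, 2, 1, 3, 4, 5, 3, 8, 9, 3, 2, 1, 3, 4, 5, 3, 8, 9, 3, 2, 1, 3, 4, 5, 3, 8, 9, 3, 2, 1, 3, 4, 5, 3, 8, 9, 3, 2, 1, 3, 4, 5, 3, 8, 9, 3, 2, 1, 3, 4, 5, 3, 8, 9, 3, 2, 1, 3, 4, 5, 3, 8, 9, 3, 2, 1, 3, 4, 5, 3, 8, 9, 3, 2, 1, 3, 4, 5, 3, 8, 9, 3, 2, 1, 3, 4, 5, 3, 8, 9], [0, 1, 2, 3, 4, 5, 8, 0, 1, 2, 3, 4, 5, 8, 0, 1, 2, 3, 4, 5, 8, 0, 1, 2, 3, 4, 5, 8, 0, 1, 2, 3, 4, 5, 8, 0, 1, 2, 3, 4, 5, 8, 0, 1, 2, 3, 4, 5, 8, 0, 1, 2, 3, 4, 5, 8, 0, 1, 2, 3, 4, 5, 8], [11, 9, 4, 8, 5, 1, 6, 9, 2, 7, 4, 5, 3, 1, 2, 1, 8,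 6, 4, 3, 7, 9, 2, 6, 1, 7, 4, 5, 3, 8, 9, 3, 2, 4, 5, 8, 3, 2, 6], [13, 7, 2, 1, 5, 3, 8, 4, 6, 2, 3, 9, 4, 1, 7, 5, 8, 2, 4, 9, 6, 7, 1, 2, 8, 9, 1, 6, 5, 6, 7, 8, 3, 2, 5, 9, 8, 3, 4, 6], [15, 8, 6, 7, 4, 9, 3, 2, 3, 4, 8, 2, 9, 5, 4, 1, 3, 2, 5, 6, 7, 8, 9, 8, 3, 4, 2, 1, 5, 9, 8, 6, 2, 9, 1, 8, 7, 4, 3, 6, 2]] [16] = true :=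
  by decide +kernel

theorem sat_rel_0_17 : relsC Cfsg.Agent.Spor.BC.act Cfsg.Agent.Spor.BC.PX.I 147456 18 [[0, 1, 0, 1, 0, 1], [0, 2, 0, 2], [0, 3, 0, 3], [0, 4, 0, 4], [0, 5, 0, 5], [0, 6, 0, 6], [0, 8, 0, 8], [0, 9, 0, 9], [0, 7, 0, 7], [1, 2, 1, 2, 1, 2], [1, 3, 1, 3], [1, 4, 1, 4], [1, 5, 1, 5], [1, 6, 1, 6], [1, 8, 1, 8], [1, 9, 1, 9], [1, 7, 1, 7], [2, 3, 2, 3, 2, 3], [2, 4, 2, 4], [2, 5, 2, 5], [2, 6, 2, 6], [2, 8, 2, 8], [2, 9, 2, 9], [2, 7, 2, 7], [3, 4, 3, 4, 3, 4], [3, 5, 3, 5], [3, 6, 3, 6], [3, 8, 3, 8, 3, 8], [3, 9, 3, 9], [3, 7, 3, 7], [4, 5, 4, 5, 4, 5], [4, 6, 4, 6], [4, 8, 4, 8], [4, 9, 4, 9], [4, 7, 4, 7], [5, 6, 5, 6, 5, 6],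 [5, 8, 5, 8], [5, 9, 5, 9], [5, 7, 5, 7], [6, 8, 6, 8], [6, 9, 6, 9], [6, 7, 6, 7, 6, 7], [8, 9, 8, 9, 8, 9], [8, 7, 8, 7], [9, 7, 9, 7], [3, 2, 1, 3, 4, 5, 3, 8, 9, 3, 2, 1, 3, 4, 5, 3, 8, 9, 3, 2, 1, 3, 4, 5, 3, 8, 9, 3, 2, 1, 3, 4, 5, 3, 8, 9, 3, 2, 1, 3, 4, 5, 3, 8, 9, 3, 2, 1, 3, 4, 5, 3, 8, 9, 3, 2, 1, 3, 4, 5, 3, 8, 9, 3, 2, 1, 3, 4, 5, 3, 8, 9, 3, 2, 1, 3, 4, 5, 3, 8, 9, 3, 2, 1, 3, 4, 5, 3, 8, 9], [0, 1, 2, 3, 4, 5, 8, 0, 1, 2, 3, 4, 5, 8, 0, 1, 2, 3, 4, 5, 8, 0, 1, 2, 3, 4, 5, 8, 0, 1, 2, 3, 4, 5, 8, 0, 1, 2, 3, 4, 5, 8, 0, 1, 2, 3, 4, 5, 8, 0, 1, 2, 3, 4, 5, 8, 0, 1, 2, 3, 4, 5, 8], [11, 9, 4, 8, 5, 1, 6, 9, 2, 7, 4, 5, 3, 1, 2, 1, 8,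 6, 4, 3, 7, 9, 2, 6, 1, 7, 4, 5, 3, 8, 9, 3, 2, 4, 5, 8, 3, 2, 6], [13, 7, 2, 1, 5, 3, 8, 4, 6, 2, 3, 9, 4, 1, 7, 5, 8, 2, 4, 9, 6, 7, 1, 2, 8, 9, 1, 6, 5, 6, 7, 8, 3, 2, 5, 9, 8, 3, 4, 6], [15, 8, 6, 7, 4, 9, 3, 2, 3, 4, 8, 2, 9, 5, 4, 1, 3, 2, 5, 6, 7, 8, 9, 8, 3, 4, 2, 1, 5, 9, 8, 6, 2, 9, 1, 8, 7, 4, 3, 6, 2]] [17] = true :=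
  by decide +kernel

theorem sat_rel_1_0 : relsC Cfsg.Agent.Spor.BC.act Cfsg.Agent.Spor.BC.PX.I 147456 18 [[17, 5, 2, 1, 8, 9, 7, 6, 3, 4, 5, 2, 7, 4, 1, 3, 2, 1, 6, 5, 3, 4, 8, 9, 3, 8, 5, 9, 6, 2, 5, 4, 1, 8, 7, 6, 2], [19, 3, 2, 9, 8, 5, 4, 6, 1, 7, 6, 7, 3, 8, 2, 6, 9, 4, 1, 8, 5, 3, 2, 9, 1, 7, 4, 8, 9, 8, 2, 3, 9, 5, 6, 1, 2, 3, 8, 7], [21, 7, 9, 3, 1, 8, 4, 5, 2, 4, 9, 3, 1, 2, 5, 4, 1, 2, 1, 5, 3, 8, 4, 3, 9, 8, 9, 8, 2, 3, 5, 4, 2, 5, 4, 8, 6, 9], [23, 9, 1, 2, 3, 7, 4, 6, 5, 3, 7, 1, 4, 2, 1, 5, 8, 6, 7, 3, 9, 2, 4, 1, 8, 6, 9, 3, 7, 5, 2, 8, 6, 5, 9, 7, 3, 8], [25, 6, 8, 2, 5, 3, 4, 3, 8, 6, 2, 1, 5, 9, 7, 8, 3, 2, 4, 6, 5, 9, 1, 3,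 8, 7, 6, 9, 2, 7, 8, 4, 1, 5, 3, 2, 9, 6], [27, 9, 4, 1, 3, 2, 0, 6, 8, 3, 1, 4, 7, 2, 6, 5, 6, 1, 3, 2, 4, 7, 8, 5, 1, 4, 9, 6, 0, 3, 7, 2, 4, 5, 4, 5, 6, 7, 1], [29, 4, 9, 2, 0, 8, 1, 6, 5, 9, 8, 0, 7, 6, 4, 5, 6, 4, 1, 3, 4, 7, 8, 6, 5, 3, 0, 6, 2, 8, 4, 9, 5, 1, 4, 0, 2, 8, 7, 1, 3, 6, 9, 5], [31, 4, 6, 9, 0, 2, 1, 5, 8, 7, 6, 3, 4, 8, 2, 1, 7, 5, 2, 6, 0, 3, 9, 1, 4, 8, 7, 9, 5, 6, 5, 8, 6, 7, 4, 0, 2, 3, 5], [33, 5, 9, 1, 2, 7, 4, 3, 6, 0, 8, 5, 7, 9, 1, 4, 8, 6, 0, 5, 3, 7, 2, 4, 6, 8, 9, 3, 5, 2, 3, 4, 7, 6, 1, 8, 9, 0, 3, 5, 7, 4, 8]] [0] = true :=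
  by decide +kernel

theorem sat_rel_1_1 : relsC Cfsg.Agent.Spor.BC.act Cfsg.Agent.Spor.BC.PX.I 147456 18 [[17, 5, 2, 1, 8, 9, 7, 6, 3, 4, 5, 2, 7, 4, 1, 3, 2, 1, 6, 5, 3, 4, 8, 9, 3, 8, 5, 9, 6, 2, 5, 4, 1, 8, 7, 6, 2], [19, 3, 2, 9, 8, 5, 4, 6, 1, 7, 6, 7, 3, 8, 2, 6, 9, 4, 1, 8, 5, 3, 2, 9, 1, 7, 4, 8, 9, 8, 2, 3, 9, 5, 6, 1, 2, 3, 8, 7], [21, 7, 9, 3, 1, 8, 4, 5, 2, 4, 9, 3, 1, 2, 5, 4, 1, 2, 1, 5, 3, 8, 4, 3, 9, 8, 9, 8, 2, 3, 5, 4, 2, 5, 4, 8, 6, 9], [23, 9, 1, 2, 3, 7, 4, 6, 5, 3, 7, 1, 4, 2, 1, 5, 8, 6, 7, 3, 9, 2, 4, 1, 8, 6, 9, 3, 7, 5, 2, 8, 6, 5, 9, 7, 3, 8], [25, 6, 8, 2, 5, 3, 4, 3, 8, 6, 2, 1, 5, 9, 7, 8, 3, 2, 4, 6, 5, 9, 1, 3,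 8, 7, 6, 9, 2, 7, 8, 4, 1, 5, 3, 2, 9, 6], [27, 9, 4, 1, 3, 2, 0, 6, 8, 3, 1, 4, 7, 2, 6, 5, 6, 1, 3, 2, 4, 7, 8, 5, 1, 4, 9, 6, 0, 3, 7, 2, 4, 5, 4, 5, 6, 7, 1], [29, 4, 9, 2, 0, 8, 1, 6, 5, 9, 8, 0, 7, 6, 4, 5, 6, 4, 1, 3, 4, 7, 8, 6, 5, 3, 0, 6, 2, 8, 4, 9, 5, 1, 4, 0, 2, 8, 7, 1, 3, 6, 9, 5], [31, 4, 6, 9, 0, 2, 1, 5, 8, 7, 6, 3, 4, 8, 2, 1, 7, 5, 2, 6, 0, 3, 9, 1, 4, 8, 7, 9, 5, 6, 5, 8, 6, 7, 4, 0, 2, 3, 5], [33, 5, 9, 1, 2, 7, 4, 3, 6, 0, 8, 5, 7, 9, 1, 4, 8, 6, 0, 5, 3, 7, 2, 4, 6, 8, 9, 3, 5, 2, 3, 4, 7, 6, 1, 8, 9, 0, 3, 5, 7, 4, 8]] [1] = true :=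
  by decide +kernel

theorem sat_rel_1_2 : relsC Cfsg.Agent.Spor.BC.act Cfsg.Agent.Spor.BC.PX.I 147456 18 [[17, 5, 2, 1, 8, 9, 7, 6, 3, 4, 5, 2, 7, 4, 1, 3, 2, 1, 6, 5, 3, 4, 8, 9, 3, 8, 5, 9, 6, 2, 5, 4, 1, 8, 7, 6, 2], [19, 3, 2, 9, 8, 5, 4, 6, 1, 7, 6, 7, 3, 8, 2, 6, 9, 4, 1, 8, 5, 3, 2, 9, 1, 7, 4, 8, 9, 8, 2, 3, 9, 5, 6, 1, 2, 3, 8, 7], [21, 7, 9, 3, 1, 8, 4, 5, 2, 4, 9, 3, 1, 2, 5, 4, 1, 2, 1, 5, 3, 8, 4, 3, 9, 8, 9, 8, 2, 3, 5, 4, 2, 5, 4, 8, 6, 9], [23, 9, 1, 2, 3, 7, 4, 6, 5, 3, 7, 1, 4, 2, 1, 5, 8, 6, 7, 3, 9, 2, 4, 1, 8, 6, 9, 3, 7, 5, 2, 8, 6, 5, 9, 7, 3, 8], [25, 6, 8, 2, 5, 3, 4, 3, 8, 6, 2, 1, 5, 9, 7, 8, 3, 2, 4, 6, 5, 9, 1, 3,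 8, 7, 6, 9, 2, 7, 8, 4, 1, 5, 3, 2, 9, 6], [27, 9, 4, 1, 3, 2, 0, 6, 8, 3, 1, 4, 7, 2, 6, 5, 6, 1, 3, 2, 4, 7, 8, 5, 1, 4, 9, 6, 0, 3, 7, 2, 4, 5, 4, 5, 6, 7, 1], [29, 4, 9, 2, 0, 8, 1, 6, 5, 9, 8, 0, 7, 6, 4, 5, 6, 4, 1, 3, 4, 7, 8, 6, 5, 3, 0, 6, 2, 8, 4, 9, 5, 1, 4, 0, 2, 8, 7, 1, 3, 6, 9, 5], [31, 4, 6, 9, 0, 2, 1, 5, 8, 7, 6, 3, 4, 8, 2, 1, 7, 5, 2, 6, 0, 3, 9, 1, 4, 8, 7, 9, 5, 6, 5, 8, 6, 7, 4, 0, 2, 3, 5], [33, 5, 9, 1, 2, 7, 4, 3, 6, 0, 8, 5, 7, 9, 1, 4, 8, 6, 0, 5, 3, 7, 2, 4, 6, 8, 9, 3, 5, 2, 3, 4, 7, 6, 1, 8, 9, 0, 3, 5, 7, 4, 8]] [2] = true :=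
  by decide +kernel

theorem sat_rel_1_3 : relsC Cfsg.Agent.Spor.BC.act Cfsg.Agent.Spor.BC.PX.I 147456 18 [[17, 5, 2, 1, 8, 9, 7, 6, 3, 4, 5, 2, 7, 4, 1, 3, 2, 1, 6, 5, 3, 4, 8, 9, 3, 8, 5, 9, 6, 2, 5, 4, 1, 8, 7, 6, 2], [19, 3, 2, 9, 8, 5, 4, 6, 1, 7, 6, 7, 3, 8, 2, 6, 9, 4, 1, 8, 5, 3, 2, 9, 1, 7, 4, 8, 9, 8, 2, 3, 9, 5, 6, 1, 2, 3, 8, 7], [21, 7, 9, 3, 1, 8, 4, 5, 2, 4, 9, 3, 1, 2, 5, 4, 1, 2, 1, 5, 3, 8, 4, 3, 9, 8, 9, 8, 2, 3, 5, 4, 2, 5, 4, 8, 6, 9], [23, 9, 1, 2, 3, 7, 4, 6, 5, 3, 7, 1, 4, 2, 1, 5, 8, 6, 7, 3, 9, 2, 4, 1, 8, 6, 9, 3, 7, 5, 2, 8, 6, 5, 9, 7, 3, 8], [25, 6, 8, 2, 5, 3, 4, 3, 8, 6, 2, 1, 5, 9, 7, 8, 3, 2, 4, 6, 5, 9, 1, 3,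 8, 7, 6, 9, 2, 7, 8, 4, 1, 5, 3, 2, 9, 6], [27, 9, 4, 1, 3, 2, 0, 6, 8, 3, 1, 4, 7, 2, 6, 5, 6, 1, 3, 2, 4, 7, 8, 5, 1, 4, 9, 6, 0, 3, 7, 2, 4, 5, 4, 5, 6, 7, 1], [29, 4, 9, 2, 0, 8, 1, 6, 5, 9, 8, 0, 7, 6, 4, 5, 6, 4, 1, 3, 4, 7, 8, 6, 5, 3, 0, 6, 2, 8, 4, 9, 5, 1, 4, 0, 2, 8, 7, 1, 3, 6, 9, 5], [31, 4, 6, 9, 0, 2, 1, 5, 8, 7, 6, 3, 4, 8, 2, 1, 7, 5, 2, 6, 0, 3, 9, 1, 4, 8, 7, 9, 5, 6, 5, 8, 6, 7, 4, 0, 2, 3, 5], [33, 5, 9, 1, 2, 7, 4, 3, 6, 0, 8, 5, 7, 9, 1, 4, 8, 6, 0, 5, 3, 7, 2, 4, 6, 8, 9, 3, 5, 2, 3, 4, 7, 6, 1, 8, 9, 0, 3, 5, 7, 4, 8]] [3] = true :=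
  by decide +kernel

theorem sat_rel_1_4 : relsC Cfsg.Agent.Spor.BC.act Cfsg.Agent.Spor.BC.PX.I 147456 18 [[17, 5, 2, 1, 8, 9, 7, 6, 3, 4, 5, 2, 7, 4, 1, 3, 2, 1, 6, 5, 3, 4, 8, 9, 3, 8, 5, 9, 6, 2, 5, 4, 1, 8, 7, 6, 2], [19, 3, 2, 9, 8, 5, 4, 6, 1, 7, 6, 7, 3, 8, 2, 6, 9, 4, 1, 8, 5, 3, 2, 9, 1, 7, 4, 8, 9, 8, 2, 3, 9, 5, 6, 1, 2, 3, 8, 7], [21, 7, 9, 3, 1, 8, 4, 5, 2, 4, 9, 3, 1, 2, 5, 4, 1, 2, 1, 5, 3, 8, 4, 3, 9, 8, 9, 8, 2, 3, 5, 4, 2, 5, 4, 8, 6, 9], [23, 9, 1, 2, 3, 7, 4, 6, 5, 3, 7, 1, 4, 2, 1, 5, 8, 6, 7, 3, 9, 2, 4, 1, 8, 6, 9, 3, 7, 5, 2, 8, 6, 5, 9, 7, 3, 8], [25, 6, 8, 2, 5, 3, 4, 3, 8, 6, 2, 1, 5, 9, 7, 8, 3, 2, 4, 6, 5, 9, 1, 3,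 8, 7, 6, 9, 2, 7, 8, 4, 1, 5, 3, 2, 9, 6], [27, 9, 4, 1, 3, 2, 0, 6, 8, 3, 1, 4, 7, 2, 6, 5, 6, 1, 3, 2, 4, 7, 8, 5, 1, 4, 9, 6, 0, 3, 7, 2, 4, 5, 4, 5, 6, 7, 1], [29, 4, 9, 2, 0, 8, 1, 6, 5, 9, 8, 0, 7, 6, 4, 5, 6, 4, 1, 3, 4, 7, 8, 6, 5, 3, 0, 6, 2, 8, 4, 9, 5, 1, 4, 0, 2, 8, 7, 1, 3, 6, 9, 5], [31, 4, 6, 9, 0, 2, 1, 5, 8, 7, 6, 3, 4, 8, 2, 1, 7, 5, 2, 6, 0, 3, 9, 1, 4, 8, 7, 9, 5, 6, 5, 8, 6, 7, 4, 0, 2, 3, 5], [33, 5, 9, 1, 2, 7, 4, 3, 6, 0, 8, 5, 7, 9, 1, 4, 8, 6, 0, 5, 3, 7, 2, 4, 6, 8, 9, 3, 5, 2, 3, 4, 7, 6, 1, 8, 9, 0, 3, 5, 7, 4, 8]] [4] = true :=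
  by decide +kernel

theorem sat_rel_1_5 : relsC Cfsg.Agent.Spor.BC.act Cfsg.Agent.Spor.BC.PX.I 147456 18 [[17, 5, 2, 1, 8, 9, 7, 6, 3, 4, 5, 2, 7, 4, 1, 3, 2, 1, 6, 5, 3, 4, 8, 9, 3, 8, 5, 9, 6, 2, 5, 4, 1, 8, 7, 6, 2], [19, 3, 2, 9, 8, 5, 4, 6, 1, 7, 6, 7, 3, 8, 2, 6, 9, 4, 1, 8, 5, 3, 2, 9, 1, 7, 4, 8, 9, 8, 2, 3, 9, 5, 6, 1, 2, 3, 8, 7], [21, 7, 9, 3, 1, 8, 4, 5, 2, 4, 9, 3, 1, 2, 5, 4, 1, 2, 1, 5, 3, 8, 4, 3, 9, 8, 9, 8, 2, 3, 5, 4, 2, 5, 4, 8, 6, 9], [23, 9, 1, 2, 3, 7, 4, 6, 5, 3, 7, 1, 4, 2, 1, 5, 8, 6, 7, 3, 9, 2, 4, 1, 8, 6, 9, 3, 7, 5, 2, 8, 6, 5, 9, 7, 3, 8], [25, 6, 8, 2, 5, 3, 4, 3, 8, 6, 2, 1, 5, 9, 7, 8, 3, 2, 4, 6, 5, 9, 1, 3,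 8, 7, 6, 9, 2, 7, 8, 4, 1, 5, 3, 2, 9, 6], [27, 9, 4, 1, 3, 2, 0, 6, 8, 3, 1, 4, 7, 2, 6, 5, 6, 1, 3, 2, 4, 7, 8, 5, 1, 4, 9, 6, 0, 3, 7, 2, 4, 5, 4, 5, 6, 7, 1], [29, 4, 9, 2, 0, 8, 1, 6, 5, 9, 8, 0, 7, 6, 4, 5, 6, 4, 1, 3, 4, 7, 8, 6, 5, 3, 0, 6, 2, 8, 4, 9, 5, 1, 4, 0, 2, 8, 7, 1, 3, 6, 9, 5], [31, 4, 6, 9, 0, 2, 1, 5, 8, 7, 6, 3, 4, 8, 2, 1, 7, 5, 2, 6, 0, 3, 9, 1, 4, 8, 7, 9, 5, 6, 5, 8, 6, 7, 4, 0, 2, 3, 5], [33, 5, 9, 1, 2, 7, 4, 3, 6, 0, 8, 5, 7, 9, 1, 4, 8, 6, 0, 5, 3, 7, 2, 4, 6, 8, 9, 3, 5, 2, 3, 4, 7, 6, 1, 8, 9, 0, 3, 5, 7, 4, 8]] [5] = true :=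
  by decide +kernel

end Cfsg.Agent.Spor.BC
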