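import Cfsg.Agent.Spor.B.Net

set_option autoImplicit false
set_option Elab.async false
set_option maxRecDepth 100000

namespace Cfsg.Agent.Spor.BC

open Cfsg.Agent.Comp.BN

theorem sat_rel_1_6 : relsC Cfsg.Agent.Spor.BC.act Cfsg.Agent.Spor.BC.PX.I 147456 18 [[17, 5, 2, 1, 8, 9, 7, 6, 3, 4, 5, 2, 7, 4, 1, 3, 2, 1, 6, 5, 3, 4, 8, 9, 3, 8, 5, 9, 6, 2, 5, 4, 1, 8, 7, 6, 2], [19, 3, 2, 9, 8, 5, 4, 6, 1, 7, 6, 7, 3, 8, 2, 6, 9, 4, 1, 8, 5, 3, 2, 9, 1, 7, 4, 8, 9, 8, 2, 3, 9, 5, 6, 1, 2, 3, 8, 7], [21, 7, 9, 3, 1, 8, 4, 5, 2, 4, 9, 3, 1, 2, 5, 4, 1, 2, 1, 5, 3, 8, 4, 3, 9, 8, 9, 8, 2, 3, 5, 4, 2, 5, 4, 8, 6, 9], [23, 9, 1, 2, 3, 7, 4, 6, 5,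 3, 7, 1, 4, 2, 1, 5, 8, 6, 7, 3, 9, 2, 4, 1, 8, 6, 9, 3, 7, 5, 2, 8, 6, 5, 9, 7, 3, 8], [25, 6, 8, 2, 5, 3, 4, 3, 8, 6, 2, 1, 5, 9, 7, 8, 3, 2, 4, 6, 5, 9, 1, 3, 8, 7, 6, 9, 2, 7, 8, 4, 1, 5, 3, 2, 9, 6], [27, 9, 4, 1, 3, 2, 0, 6, 8, 3, 1, 4, 7, 2, 6, 5, 6, 1, 3, 2, 4, 7, 8, 5, 1, 4, 9, 6, 0, 3, 7, 2, 4, 5, 4, 5, 6, 7, 1], [29, 4, 9, 2, 0, 8, 1, 6, 5, 9, 8, 0, 7, 6, 4, 5, 6, 4, 1, 3, 4, 7, 8, 6, 5, 3, 0, 6, 2, 8, 4, 9, 5, 1, 4, 0, 2, 8, 7, 1, 3, 6, 9, 5], [31, 4, 6, 9, 0, 2, 1, 5, 8, 7, 6, 3, 4, 8, 2, 1, 7, 5, 2, 6, 0, 3, 9, 1, 4, 8, 7, 9, 5, 6, 5, 8, 6, 7, 4, 0, 2, 3, 5], [33, 5, 9, 1, 2, 7, 4, 3, 6, 0, 8, 5, 7, 9, 1, 4, 8, 6, 0, 5,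 3, 7, 2, 4, 6, 8, 9, 3, 5, 2, 3, 4, 7, 6, 1, 8, 9, 0, 3, 5, 7, 4, 8]] [6] = true :=
  by decide +kernel

theorem sat_rel_1_7 : relsC Cfsg.Agent.Spor.BC.act Cfsg.Agent.Spor.BC.PX.I 147456 18 [[17, 5, 2, 1, 8, 9, 7, 6, 3, 4, 5, 2, 7, 4, 1, 3, 2, 1, 6, 5, 3, 4, 8, 9, 3, 8, 5, 9, 6, 2, 5, 4, 1, 8, 7, 6, 2], [19, 3, 2, 9, 8, 5, 4, 6, 1, 7, 6, 7, 3, 8, 2, 6, 9, 4, 1, 8, 5, 3, 2, 9, 1, 7, 4, 8, 9, 8, 2, 3, 9, 5, 6, 1, 2, 3, 8, 7], [21, 7, 9, 3, 1, 8, 4, 5, 2, 4, 9, 3, 1, 2, 5, 4, 1, 2, 1, 5, 3, 8, 4, 3, 9, 8, 9, 8, 2, 3, 5, 4, 2, 5, 4, 8, 6, 9], [23, 9, 1, 2, 3, 7, 4, 6, 5, 3, 7, 1, 4, 2, 1, 5, 8, 6, 7, 3, 9, 2, 4, 1, 8, 6, 9, 3, 7, 5, 2,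 8, 6, 5, 9, 7, 3, 8], [25, 6, 8, 2, 5, 3, 4, 3, 8, 6, 2, 1, 5, 9, 7, 8, 3, 2, 4, 6, 5, 9, 1, 3, 8, 7, 6, 9, 2, 7, 8, 4, 1, 5, 3, 2, 9, 6], [27, 9, 4, 1, 3, 2, 0, 6, 8, 3, 1, 4, 7, 2, 6, 5, 6, 1, 3, 2, 4, 7, 8, 5, 1, 4, 9, 6, 0, 3, 7, 2, 4, 5, 4, 5, 6, 7, 1], [29, 4, 9, 2, 0, 8, 1, 6, 5, 9, 8, 0, 7, 6, 4, 5, 6, 4, 1, 3, 4, 7, 8, 6, 5, 3, 0, 6, 2, 8, 4, 9, 5, 1, 4, 0, 2, 8, 7, 1, 3, 6, 9, 5], [31, 4, 6, 9, 0, 2, 1, 5, 8, 7, 6, 3, 4, 8, 2, 1, 7, 5, 2, 6, 0, 3, 9, 1, 4, 8, 7, 9, 5, 6, 5, 8, 6, 7, 4, 0, 2, 3, 5], [33, 5, 9, 1, 2, 7, 4, 3, 6, 0, 8, 5, 7, 9, 1, 4, 8, 6, 0, 5, 3, 7, 2, 4, 6, 8, 9, 3, 5, 2, 3, 4, 7, 6, 1, 8, 9, 0, 3, 5, 7, 4,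 8]] [7] = true :=
  by decide +kernel

theorem sat_rel_1_8 : relsC Cfsg.Agent.Spor.BC.act Cfsg.Agent.Spor.BC.PX.I 147456 18 [[17, 5, 2, 1, 8, 9, 7, 6, 3, 4, 5, 2, 7, 4, 1, 3, 2, 1, 6, 5, 3, 4, 8, 9, 3, 8, 5, 9, 6, 2, 5, 4, 1, 8, 7, 6, 2], [19, 3, 2, 9, 8, 5, 4, 6, 1, 7, 6, 7, 3, 8, 2, 6, 9, 4, 1, 8, 5, 3, 2, 9, 1, 7, 4, 8, 9, 8, 2, 3, 9, 5, 6, 1, 2, 3, 8, 7], [21, 7, 9, 3, 1, 8, 4, 5, 2, 4, 9, 3, 1, 2, 5, 4, 1, 2, 1, 5, 3, 8, 4, 3, 9, 8, 9, 8, 2, 3, 5, 4, 2, 5, 4, 8, 6, 9], [23, 9, 1, 2, 3, 7, 4, 6, 5, 3, 7, 1, 4, 2, 1, 5, 8, 6, 7, 3, 9, 2, 4, 1, 8, 6, 9, 3, 7, 5, 2, 8, 6, 5, 9, 7, 3, 8], [25, 6, 8, 2, 5, 3, 4, 3, 8, 6, 2, 1, 5, 9,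 7, 8, 3, 2, 4, 6, 5, 9, 1, 3, 8, 7, 6, 9, 2, 7, 8, 4, 1, 5, 3, 2, 9, 6], [27, 9, 4, 1, 3, 2, 0, 6, 8, 3, 1, 4, 7, 2, 6, 5, 6, 1, 3, 2, 4, 7, 8, 5, 1, 4, 9, 6, 0, 3, 7, 2, 4, 5, 4, 5, 6, 7, 1], [29, 4, 9, 2, 0, 8, 1, 6, 5, 9, 8, 0, 7, 6, 4, 5, 6, 4, 1, 3, 4, 7, 8, 6, 5, 3, 0, 6, 2, 8, 4, 9, 5, 1, 4, 0, 2, 8, 7, 1, 3, 6, 9, 5], [31, 4, 6, 9, 0, 2, 1, 5, 8, 7, 6, 3, 4, 8, 2, 1, 7, 5, 2, 6, 0, 3, 9, 1, 4, 8, 7, 9, 5, 6, 5, 8, 6, 7, 4, 0, 2, 3, 5], [33, 5, 9, 1, 2, 7, 4, 3, 6, 0, 8, 5, 7, 9, 1, 4, 8, 6, 0, 5, 3, 7, 2, 4, 6, 8, 9, 3, 5, 2, 3, 4, 7, 6, 1, 8, 9, 0, 3, 5, 7, 4, 8]] [8] = true :=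
  by decide +kernel

theorem sat_rel_1_9 : relsC Cfsg.Agent.Spor.BC.act Cfsg.Agent.Spor.BC.PX.I 147456 18 [[17, 5, 2, 1, 8, 9, 7, 6, 3, 4, 5, 2, 7, 4, 1, 3, 2, 1, 6, 5, 3, 4, 8, 9, 3, 8, 5, 9, 6, 2, 5, 4, 1, 8, 7, 6, 2], [19, 3, 2, 9, 8, 5, 4, 6, 1, 7, 6, 7, 3, 8, 2, 6, 9, 4, 1, 8, 5, 3, 2, 9, 1, 7, 4, 8, 9, 8, 2, 3, 9, 5, 6, 1, 2, 3, 8, 7], [21, 7, 9, 3, 1, 8, 4, 5, 2, 4, 9, 3, 1, 2, 5, 4, 1, 2, 1, 5, 3, 8, 4, 3, 9, 8, 9, 8, 2, 3, 5, 4, 2, 5, 4, 8, 6, 9], [23, 9, 1, 2, 3, 7, 4, 6, 5, 3, 7, 1, 4, 2, 1, 5, 8, 6, 7, 3, 9, 2, 4, 1, 8, 6, 9, 3, 7, 5, 2, 8, 6, 5, 9, 7, 3, 8], [25, 6, 8, 2, 5, 3, 4, 3, 8, 6, 2, 1, 5, 9, 7, 8, 3, 2, 4, 6,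 5, 9, 1, 3, 8, 7, 6, 9, 2, 7, 8, 4, 1, 5, 3, 2, 9, 6], [27, 9, 4, 1, 3, 2, 0, 6, 8, 3, 1, 4, 7, 2, 6, 5, 6, 1, 3, 2, 4, 7, 8, 5, 1, 4, 9, 6, 0, 3, 7, 2, 4, 5, 4, 5, 6, 7, 1], [29, 4, 9, 2, 0, 8, 1, 6, 5, 9, 8, 0, 7, 6, 4, 5, 6, 4, 1, 3, 4, 7, 8, 6, 5, 3, 0, 6, 2, 8, 4, 9, 5, 1, 4, 0, 2, 8, 7, 1, 3, 6, 9, 5], [31, 4, 6, 9, 0, 2, 1, 5, 8, 7, 6, 3, 4, 8, 2, 1, 7, 5, 2, 6, 0, 3, 9, 1, 4, 8, 7, 9, 5, 6, 5, 8, 6, 7, 4, 0, 2, 3, 5], [33, 5, 9, 1, 2, 7, 4, 3, 6, 0, 8, 5, 7, 9, 1, 4, 8, 6, 0, 5, 3, 7, 2, 4, 6, 8, 9, 3, 5, 2, 3, 4, 7, 6, 1, 8, 9, 0, 3, 5, 7, 4, 8]] [9] = true :=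
  by decide +kernel

theorem sat_rel_1_10 : relsC Cfsg.Agent.Spor.BC.act Cfsg.Agent.Spor.BC.PX.I 147456 18 [[17, 5, 2, 1, 8, 9, 7, 6, 3, 4, 5, 2, 7, 4, 1, 3, 2, 1, 6, 5, 3, 4, 8, 9, 3, 8, 5, 9, 6, 2, 5, 4, 1, 8, 7, 6, 2], [19, 3, 2, 9, 8, 5, 4, 6, 1, 7, 6, 7, 3, 8, 2, 6, 9, 4, 1, 8, 5, 3, 2, 9, 1, 7, 4, 8, 9, 8, 2, 3, 9, 5, 6, 1, 2, 3, 8, 7], [21, 7, 9, 3, 1, 8, 4, 5, 2, 4, 9, 3, 1, 2, 5, 4, 1, 2, 1, 5, 3, 8, 4, 3, 9, 8, 9, 8, 2, 3, 5, 4, 2, 5, 4, 8, 6, 9], [23, 9, 1, 2, 3, 7, 4, 6, 5, 3, 7, 1, 4, 2, 1, 5, 8, 6, 7, 3, 9, 2, 4, 1, 8, 6, 9, 3, 7, 5, 2, 8, 6, 5, 9, 7, 3, 8], [25, 6, 8, 2, 5, 3, 4, 3, 8, 6, 2, 1, 5, 9, 7, 8, 3, 2, 4, 6,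 5, 9, 1, 3, 8, 7, 6, 9, 2, 7, 8, 4, 1, 5, 3, 2, 9, 6], [27, 9, 4, 1, 3, 2, 0, 6, 8, 3, 1, 4, 7, 2, 6, 5, 6, 1, 3, 2, 4, 7, 8, 5, 1, 4, 9, 6, 0, 3, 7, 2, 4, 5, 4, 5, 6, 7, 1], [29, 4, 9, 2, 0, 8, 1, 6, 5, 9, 8, 0, 7, 6, 4, 5, 6, 4, 1, 3, 4, 7, 8, 6, 5, 3, 0, 6, 2, 8, 4, 9, 5, 1, 4, 0, 2, 8, 7, 1, 3, 6, 9, 5], [31, 4, 6, 9, 0, 2, 1, 5, 8, 7, 6, 3, 4, 8, 2, 1, 7, 5, 2, 6, 0, 3, 9, 1, 4, 8, 7, 9, 5, 6, 5, 8, 6, 7, 4, 0, 2, 3, 5], [33, 5, 9, 1, 2, 7, 4, 3, 6, 0, 8, 5, 7, 9, 1, 4, 8, 6, 0, 5, 3, 7, 2, 4, 6, 8, 9, 3, 5, 2, 3, 4, 7, 6, 1, 8, 9, 0, 3, 5, 7, 4, 8]] [10] = true :=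
  by decide +kernel

theorem sat_rel_1_11 : relsC Cfsg.Agent.Spor.BC.act Cfsg.Agent.Spor.BC.PX.I 147456 18 [[17, 5, 2, 1, 8, 9, 7, 6, 3, 4, 5, 2, 7, 4, 1, 3, 2, 1, 6, 5, 3, 4, 8, 9, 3, 8, 5, 9, 6, 2, 5, 4, 1, 8, 7, 6, 2], [19, 3, 2, 9, 8, 5, 4, 6, 1, 7, 6, 7, 3, 8, 2, 6, 9, 4, 1, 8, 5, 3, 2, 9, 1, 7, 4, 8, 9, 8, 2, 3, 9, 5, 6, 1, 2, 3, 8, 7], [21, 7, 9, 3, 1, 8, 4, 5, 2, 4, 9, 3, 1, 2, 5, 4, 1, 2, 1, 5, 3, 8, 4, 3, 9, 8, 9, 8, 2, 3, 5, 4, 2, 5, 4, 8, 6, 9], [23, 9, 1, 2, 3, 7, 4, 6, 5, 3, 7, 1, 4, 2, 1, 5, 8, 6, 7, 3, 9, 2, 4, 1, 8, 6, 9, 3, 7, 5, 2, 8, 6, 5, 9, 7, 3, 8], [25, 6, 8, 2, 5, 3, 4, 3, 8, 6, 2, 1, 5, 9, 7, 8, 3, 2, 4, 6,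 5, 9, 1, 3, 8, 7, 6, 9, 2, 7, 8, 4, 1, 5, 3, 2, 9, 6], [27, 9, 4, 1, 3, 2, 0, 6, 8, 3, 1, 4, 7, 2, 6, 5, 6, 1, 3, 2, 4, 7, 8, 5, 1, 4, 9, 6, 0, 3, 7, 2, 4, 5, 4, 5, 6, 7, 1], [29, 4, 9, 2, 0, 8, 1, 6, 5, 9, 8, 0, 7, 6, 4, 5, 6, 4, 1, 3, 4, 7, 8, 6, 5, 3, 0, 6, 2, 8, 4, 9, 5, 1, 4, 0, 2, 8, 7, 1, 3, 6, 9, 5], [31, 4, 6, 9, 0, 2, 1, 5, 8, 7, 6, 3, 4, 8, 2, 1, 7, 5, 2, 6, 0, 3, 9, 1, 4, 8, 7, 9, 5, 6, 5, 8, 6, 7, 4, 0, 2, 3, 5], [33, 5, 9, 1, 2, 7, 4, 3, 6, 0, 8, 5, 7, 9, 1, 4, 8, 6, 0, 5, 3, 7, 2, 4, 6, 8, 9, 3, 5, 2, 3, 4, 7, 6, 1, 8, 9, 0, 3, 5, 7, 4, 8]] [11] = true :=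
  by decide +kernel

theorem sat_rel_1_12 : relsC Cfsg.Agent.Spor.BC.act Cfsg.Agent.Spor.BC.PX.I 147456 18 [[17, 5, 2, 1, 8, 9, 7, 6, 3, 4, 5, 2, 7, 4, 1, 3, 2, 1, 6, 5, 3, 4, 8, 9, 3, 8, 5, 9, 6, 2, 5, 4, 1, 8, 7, 6, 2], [19, 3, 2, 9, 8, 5, 4, 6, 1, 7, 6, 7, 3, 8, 2, 6, 9, 4, 1, 8, 5, 3, 2, 9, 1, 7, 4, 8, 9, 8, 2, 3, 9, 5, 6, 1, 2, 3, 8, 7], [21, 7, 9, 3, 1, 8, 4, 5, 2, 4, 9, 3, 1, 2, 5, 4, 1, 2, 1, 5, 3, 8, 4, 3, 9, 8, 9, 8, 2, 3, 5, 4, 2, 5, 4, 8, 6, 9], [23, 9, 1, 2, 3, 7, 4, 6, 5, 3, 7, 1, 4, 2, 1, 5, 8, 6, 7, 3, 9, 2, 4, 1, 8, 6, 9, 3, 7, 5, 2, 8, 6, 5, 9, 7, 3, 8], [25, 6, 8, 2, 5, 3, 4, 3, 8, 6, 2, 1, 5, 9, 7, 8, 3, 2, 4, 6,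 5, 9, 1, 3, 8, 7, 6, 9, 2, 7, 8, 4, 1, 5, 3, 2, 9, 6], [27, 9, 4, 1, 3, 2, 0, 6, 8, 3, 1, 4, 7, 2, 6, 5, 6, 1, 3, 2, 4, 7, 8, 5, 1, 4, 9, 6, 0, 3, 7, 2, 4, 5, 4, 5, 6, 7, 1], [29, 4, 9, 2, 0, 8, 1, 6, 5, 9, 8, 0, 7, 6, 4, 5, 6, 4, 1, 3, 4, 7, 8, 6, 5, 3, 0, 6, 2, 8, 4, 9, 5, 1, 4, 0, 2, 8, 7, 1, 3, 6, 9, 5], [31, 4, 6, 9, 0, 2, 1, 5, 8, 7, 6, 3, 4, 8, 2, 1, 7, 5, 2, 6, 0, 3, 9, 1, 4, 8, 7, 9, 5, 6, 5, 8, 6, 7, 4, 0, 2, 3, 5], [33, 5, 9, 1, 2, 7, 4, 3, 6, 0, 8, 5, 7, 9, 1, 4, 8, 6, 0, 5, 3, 7, 2, 4, 6, 8, 9, 3, 5, 2, 3, 4, 7, 6, 1, 8, 9, 0, 3, 5, 7, 4, 8]] [12] = true :=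
  by decide +kernel

theorem sat_rel_1_13 : relsC Cfsg.Agent.Spor.BC.act Cfsg.Agent.Spor.BC.PX.I 147456 18 [[17, 5, 2, 1, 8, 9, 7, 6, 3, 4, 5, 2, 7, 4, 1, 3, 2, 1, 6, 5, 3, 4, 8, 9, 3, 8, 5, 9, 6, 2, 5, 4, 1, 8, 7, 6, 2], [19, 3, 2, 9, 8, 5, 4, 6, 1, 7, 6, 7, 3, 8, 2, 6, 9, 4, 1, 8, 5, 3, 2, 9, 1, 7, 4, 8, 9, 8, 2, 3, 9, 5, 6, 1, 2, 3, 8, 7], [21, 7, 9, 3, 1, 8, 4, 5, 2, 4, 9, 3, 1, 2, 5, 4, 1, 2, 1, 5, 3, 8, 4, 3, 9, 8, 9, 8, 2, 3, 5, 4, 2, 5, 4, 8, 6, 9], [23, 9, 1, 2, 3, 7, 4, 6, 5, 3, 7, 1, 4, 2, 1, 5, 8, 6, 7, 3, 9, 2, 4, 1, 8, 6, 9, 3, 7, 5, 2, 8, 6, 5, 9, 7, 3, 8], [25, 6, 8, 2, 5, 3, 4, 3, 8, 6, 2, 1, 5, 9, 7, 8, 3, 2, 4, 6,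 5, 9, 1, 3, 8, 7, 6, 9, 2, 7, 8, 4, 1, 5, 3, 2, 9, 6], [27, 9, 4, 1, 3, 2, 0, 6, 8, 3, 1, 4, 7, 2, 6, 5, 6, 1, 3, 2, 4, 7, 8, 5, 1, 4, 9, 6, 0, 3, 7, 2, 4, 5, 4, 5, 6, 7, 1], [29, 4, 9, 2, 0, 8, 1, 6, 5, 9, 8, 0, 7, 6, 4, 5, 6, 4, 1, 3, 4, 7, 8, 6, 5, 3, 0, 6, 2, 8, 4, 9, 5, 1, 4, 0, 2, 8, 7, 1, 3, 6, 9, 5], [31, 4, 6, 9, 0, 2, 1, 5, 8, 7, 6, 3, 4, 8, 2, 1, 7, 5, 2, 6, 0, 3, 9, 1, 4, 8, 7, 9, 5, 6, 5, 8, 6, 7, 4, 0, 2, 3, 5], [33, 5, 9, 1, 2, 7, 4, 3, 6, 0, 8, 5, 7, 9, 1, 4, 8, 6, 0, 5, 3, 7, 2, 4, 6, 8, 9, 3, 5, 2, 3, 4, 7, 6, 1, 8, 9, 0, 3, 5, 7, 4, 8]] [13] = true :=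
  by decide +kernel

theorem sat_rel_1_14 : relsC Cfsg.Agent.Spor.BC.act Cfsg.Agent.Spor.BC.PX.I 147456 18 [[17, 5, 2, 1, 8, 9, 7, 6, 3, 4, 5, 2, 7, 4, 1, 3, 2, 1, 6, 5, 3, 4, 8, 9, 3, 8, 5, 9, 6, 2, 5, 4, 1, 8, 7, 6, 2], [19, 3, 2, 9, 8, 5, 4, 6, 1, 7, 6, 7, 3, 8, 2, 6, 9, 4, 1, 8, 5, 3, 2, 9, 1, 7, 4, 8, 9, 8, 2, 3, 9, 5, 6, 1, 2, 3, 8, 7], [21, 7, 9, 3, 1, 8, 4, 5, 2, 4, 9, 3, 1, 2, 5, 4, 1, 2, 1, 5, 3, 8, 4, 3, 9, 8, 9, 8, 2, 3, 5, 4, 2, 5, 4, 8, 6, 9], [23, 9, 1, 2, 3, 7, 4, 6, 5, 3, 7, 1, 4, 2, 1, 5, 8, 6, 7, 3, 9, 2, 4, 1, 8, 6, 9, 3, 7, 5, 2, 8, 6, 5, 9, 7, 3, 8], [25, 6, 8, 2, 5, 3, 4, 3, 8, 6, 2, 1, 5, 9, 7, 8, 3, 2, 4, 6,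 5, 9, 1, 3, 8, 7, 6, 9, 2, 7, 8, 4, 1, 5, 3, 2, 9, 6], [27, 9, 4, 1, 3, 2, 0, 6, 8, 3, 1, 4, 7, 2, 6, 5, 6, 1, 3, 2, 4, 7, 8, 5, 1, 4, 9, 6, 0, 3, 7, 2, 4, 5, 4, 5, 6, 7, 1], [29, 4, 9, 2, 0, 8, 1, 6, 5, 9, 8, 0, 7, 6, 4, 5, 6, 4, 1, 3, 4, 7, 8, 6, 5, 3, 0, 6, 2, 8, 4, 9, 5, 1, 4, 0, 2, 8, 7, 1, 3, 6, 9, 5], [31, 4, 6, 9, 0, 2, 1, 5, 8, 7, 6, 3, 4, 8, 2, 1, 7, 5, 2, 6, 0, 3, 9, 1, 4, 8, 7, 9, 5, 6, 5, 8, 6, 7, 4, 0, 2, 3, 5], [33, 5, 9, 1, 2, 7, 4, 3, 6, 0, 8, 5, 7, 9, 1, 4, 8, 6, 0, 5, 3, 7, 2, 4, 6, 8, 9, 3, 5, 2, 3, 4, 7, 6, 1, 8, 9, 0, 3, 5, 7, 4, 8]] [14] = true :=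
  by decide +kernel

theorem sat_rel_1_15 : relsC Cfsg.Agent.Spor.BC.act Cfsg.Agent.Spor.BC.PX.I 147456 18 [[17, 5, 2, 1, 8, 9, 7, 6, 3, 4, 5, 2, 7, 4, 1, 3, 2, 1, 6, 5, 3, 4, 8, 9, 3, 8, 5, 9, 6, 2, 5, 4, 1, 8, 7, 6, 2], [19, 3, 2, 9, 8, 5, 4, 6, 1, 7, 6, 7, 3, 8, 2, 6, 9, 4, 1, 8, 5, 3, 2, 9, 1, 7, 4, 8, 9, 8, 2, 3, 9, 5, 6, 1, 2, 3, 8, 7], [21, 7, 9, 3, 1, 8, 4, 5, 2, 4, 9, 3, 1, 2, 5, 4, 1, 2, 1, 5, 3, 8, 4, 3, 9, 8, 9, 8, 2, 3, 5, 4, 2, 5, 4, 8, 6, 9], [23, 9, 1, 2, 3, 7, 4, 6, 5, 3, 7, 1, 4, 2, 1, 5, 8, 6, 7, 3, 9, 2, 4, 1, 8, 6, 9, 3, 7, 5, 2, 8, 6, 5, 9, 7, 3, 8], [25, 6, 8, 2, 5, 3, 4, 3, 8, 6, 2, 1, 5, 9, 7, 8, 3, 2, 4, 6,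 5, 9, 1, 3, 8, 7, 6, 9, 2, 7, 8, 4, 1, 5, 3, 2, 9, 6], [27, 9, 4, 1, 3, 2, 0, 6, 8, 3, 1, 4, 7, 2, 6, 5, 6, 1, 3, 2, 4, 7, 8, 5, 1, 4, 9, 6, 0, 3, 7, 2, 4, 5, 4, 5, 6, 7, 1], [29, 4, 9, 2, 0, 8, 1, 6, 5, 9, 8, 0, 7, 6, 4, 5, 6, 4, 1, 3, 4, 7, 8, 6, 5, 3, 0, 6, 2, 8, 4, 9, 5, 1, 4, 0, 2, 8, 7, 1, 3, 6, 9, 5], [31, 4, 6, 9, 0, 2, 1, 5, 8, 7, 6, 3, 4, 8, 2, 1, 7, 5, 2, 6, 0, 3, 9, 1, 4, 8, 7, 9, 5, 6, 5, 8, 6, 7, 4, 0, 2, 3, 5], [33, 5, 9, 1, 2, 7, 4, 3, 6, 0, 8, 5, 7, 9, 1, 4, 8, 6, 0, 5, 3, 7, 2, 4, 6, 8, 9, 3, 5, 2, 3, 4, 7, 6, 1, 8, 9, 0, 3, 5, 7, 4, 8]] [15] = true :=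
  by decide +kernel

theorem sat_rel_1_16 : relsC Cfsg.Agent.Spor.BC.act Cfsg.Agent.Spor.BC.PX.I 147456 18 [[17, 5, 2, 1, 8, 9, 7, 6, 3, 4, 5, 2, 7, 4, 1, 3, 2, 1, 6, 5, 3, 4, 8, 9, 3, 8, 5, 9, 6, 2, 5, 4, 1, 8, 7, 6, 2], [19, 3, 2, 9, 8, 5, 4, 6, 1, 7, 6, 7, 3, 8, 2, 6, 9, 4, 1, 8, 5, 3, 2, 9, 1, 7, 4, 8, 9, 8, 2, 3, 9, 5, 6, 1, 2, 3, 8, 7], [21, 7, 9, 3, 1, 8, 4, 5, 2, 4, 9, 3, 1, 2, 5, 4, 1, 2, 1, 5, 3, 8, 4, 3, 9, 8, 9, 8, 2, 3, 5, 4, 2, 5, 4, 8, 6, 9], [23, 9, 1, 2, 3, 7, 4, 6, 5, 3, 7, 1, 4, 2, 1, 5, 8, 6, 7, 3, 9, 2, 4, 1, 8, 6, 9, 3, 7, 5, 2, 8, 6, 5, 9, 7, 3, 8], [25, 6, 8, 2, 5, 3, 4, 3, 8, 6, 2, 1, 5, 9, 7, 8, 3, 2, 4, 6,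 5, 9, 1, 3, 8, 7, 6, 9, 2, 7, 8, 4, 1, 5, 3, 2, 9, 6], [27, 9, 4, 1, 3, 2, 0, 6, 8, 3, 1, 4, 7, 2, 6, 5, 6, 1, 3, 2, 4, 7, 8, 5, 1, 4, 9, 6, 0, 3, 7, 2, 4, 5, 4, 5, 6, 7, 1], [29, 4, 9, 2, 0, 8, 1, 6, 5, 9, 8, 0, 7, 6, 4, 5, 6, 4, 1, 3, 4, 7, 8, 6, 5, 3, 0, 6, 2, 8, 4, 9, 5, 1, 4, 0, 2, 8, 7, 1, 3, 6, 9, 5], [31, 4, 6, 9, 0, 2, 1, 5, 8, 7, 6, 3, 4, 8, 2, 1, 7, 5, 2, 6, 0, 3, 9, 1, 4, 8, 7, 9, 5, 6, 5, 8, 6, 7, 4, 0, 2, 3, 5], [33, 5, 9, 1, 2, 7, 4, 3, 6, 0, 8, 5, 7, 9, 1, 4, 8, 6, 0, 5, 3, 7, 2, 4, 6, 8, 9, 3, 5, 2, 3, 4, 7, 6, 1, 8, 9, 0, 3, 5, 7, 4, 8]] [16] = true :=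
  by decide +kernel

theorem sat_rel_1_17 : relsC Cfsg.Agent.Spor.BC.act Cfsg.Agent.Spor.BC.PX.I 147456 18 [[17, 5, 2, 1, 8, 9, 7, 6, 3, 4, 5, 2, 7, 4, 1, 3, 2, 1, 6, 5, 3, 4, 8, 9, 3, 8, 5, 9, 6, 2, 5, 4, 1, 8, 7, 6, 2], [19, 3, 2, 9, 8, 5, 4, 6, 1, 7, 6, 7, 3, 8, 2, 6, 9, 4, 1, 8, 5, 3, 2, 9, 1, 7, 4, 8, 9, 8, 2, 3, 9, 5, 6, 1, 2, 3, 8, 7], [21, 7, 9, 3, 1, 8, 4, 5, 2, 4, 9, 3, 1, 2, 5, 4, 1, 2, 1, 5, 3, 8, 4, 3, 9, 8, 9, 8, 2, 3, 5, 4, 2, 5, 4, 8, 6, 9], [23, 9, 1, 2, 3, 7, 4, 6, 5, 3, 7, 1, 4, 2, 1, 5, 8, 6, 7, 3, 9, 2, 4, 1, 8, 6, 9, 3, 7, 5, 2, 8, 6, 5, 9, 7, 3, 8], [25, 6, 8, 2, 5, 3, 4, 3, 8, 6, 2, 1, 5, 9, 7, 8, 3, 2, 4, 6,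 5, 9, 1, 3, 8, 7, 6, 9, 2, 7, 8, 4, 1, 5, 3, 2, 9, 6], [27, 9, 4, 1, 3, 2, 0, 6, 8, 3, 1, 4, 7, 2, 6, 5, 6, 1, 3, 2, 4, 7, 8, 5, 1, 4, 9, 6, 0, 3, 7, 2, 4, 5, 4, 5, 6, 7, 1], [29, 4, 9, 2, 0, 8, 1, 6, 5, 9, 8, 0, 7, 6, 4, 5, 6, 4, 1, 3, 4, 7, 8, 6, 5, 3, 0, 6, 2, 8, 4, 9, 5, 1, 4, 0, 2, 8, 7, 1, 3, 6, 9, 5], [31, 4, 6, 9, 0, 2, 1, 5, 8, 7, 6, 3, 4, 8, 2, 1, 7, 5, 2, 6, 0, 3, 9, 1, 4, 8, 7, 9, 5, 6, 5, 8, 6, 7, 4, 0, 2, 3, 5], [33, 5, 9, 1, 2, 7, 4, 3, 6, 0, 8, 5, 7, 9, 1, 4, 8, 6, 0, 5, 3, 7, 2, 4, 6, 8, 9, 3, 5, 2, 3, 4, 7, 6, 1, 8, 9, 0, 3, 5, 7, 4, 8]] [17] = true :=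
  by decide +kernel

end Cfsg.Agent.Spor.BC
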