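import Cfsg.Agent.Spor.B.Net
import Cfsg.Agent.Spor.B.SatR0
import Cfsg.Agent.Spor.B.SatR1
import Cfsg.Agent.Spor.B.SatR2
import Cfsg.Agent.Spor.B.SatI

set_option autoImplicit false
set_option Elab.async false
set_option maxRecDepth 100000

namespace Cfsg.Agent.Spor.BC

open Cfsg.Agent.Comp.BN

theorem sat_rel_0 : ∀ r ∈ ([[0, 1, 0, 1, 0, 1], [0, 2, 0, 2], [0, 3, 0, 3], [0, 4, 0, 4], [0, 5, 0, 5], [0, 6, 0, 6], [0, 8, 0, 8], [0, 9, 0, 9], [0, 7, 0, 7], [1, 2, 1, 2, 1, 2], [1, 3, 1, 3], [1, 4, 1, 4], [1, 5, 1, 5], [1, 6, 1, 6], [1, 8, 1, 8], [1, 9, 1, 9], [1, 7, 1, 7], [2, 3, 2, 3, 2, 3], [2, 4, 2, 4], [2, 5, 2, 5], [2, 6, 2, 6], [2, 8, 2, 8], [2, 9, 2, 9],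 [2, 7, 2, 7], [3, 4, 3, 4, 3, 4], [3, 5, 3, 5], [3, 6, 3, 6], [3, 8, 3, 8, 3, 8], [3, 9, 3, 9], [3, 7, 3, 7], [4, 5, 4, 5, 4, 5], [4, 6, 4, 6], [4, 8, 4, 8], [4, 9, 4, 9], [4, 7, 4, 7], [5, 6, 5, 6, 5, 6], [5, 8, 5, 8], [5, 9, 5, 9], [5, 7, 5, 7], [6, 8, 6, 8], [6, 9, 6, 9], [6, 7, 6, 7, 6, 7], [8, 9, 8, 9, 8, 9], [8, 7, 8, 7], [9, 7, 9, 7], [3, 2, 1, 3, 4, 5, 3, 8, 9, 3, 2, 1, 3, 4, 5, 3, 8, 9, 3, 2, 1, 3, 4, 5, 3, 8, 9, 3, 2, 1, 3, 4, 5, 3, 8, 9, 3, 2, 1, 3, 4, 5, 3, 8, 9, 3, 2, 1, 3, 4, 5, 3, 8, 9, 3, 2, 1, 3, 4, 5, 3, 8, 9, 3, 2, 1, 3, 4, 5, 3, 8, 9, 3, 2, 1, 3, 4, 5, 3, 8, 9, 3, 2, 1, 3, 4, 5, 3, 8, 9], [0, 1, 2, 3, 4, 5, 8, 0, 1, 2, 3, 4, 5, 8, 0,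 1, 2, 3, 4, 5, 8, 0, 1, 2, 3, 4, 5, 8, 0, 1, 2, 3, 4, 5, 8, 0, 1, 2, 3, 4, 5, 8, 0, 1, 2, 3, 4, 5, 8, 0, 1, 2, 3, 4, 5, 8, 0, 1, 2, 3, 4, 5, 8], [11, 9, 4, 8, 5, 1, 6, 9, 2, 7, 4, 5, 3, 1, 2, 1, 8, 6, 4, 3, 7, 9, 2, 6, 1, 7, 4, 5, 3, 8, 9, 3, 2, 4, 5, 8, 3, 2, 6], [13, 7, 2, 1, 5, 3, 8, 4, 6, 2, 3, 9, 4, 1, 7, 5, 8, 2, 4, 9, 6, 7, 1, 2, 8, 9, 1, 6, 5, 6, 7, 8, 3, 2, 5, 9, 8, 3, 4, 6], [15, 8, 6, 7, 4, 9, 3, 2, 3, 4, 8, 2, 9, 5, 4, 1, 3, 2, 5, 6, 7, 8, 9, 8, 3, 4, 2, 1, 5, 9, 8, 6, 2, 9, 1, 8, 7, 4, 3, 6, 2]] : List (List ℕ)), ev Cfsg.Agent.Spor.BC.π r = 1 :=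
  rels_of_checks Cfsg.Agent.Spor.BC.spec (K := 18) (by decide) sat_inv _ [[0], [1], [2], [3], [4], [5], [6], [7], [8], [9], [10], [11], [12], [13], [14], [15], [16], [17]] (by decide) ⟨sat_rel_0_0, sat_rel_0_1, sat_rel_0_2, sat_rel_0_3, sat_rel_0_4, sat_rel_0_5, sat_rel_0_6, sat_rel_0_7, sat_rel_0_8, sat_rel_0_9, sat_rel_0_10, sat_rel_0_11, sat_rel_0_12, sat_rel_0_13, sat_rel_0_14, sat_rel_0_15, sat_rel_0_16, sat_rel_0_17, trivial⟩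

theorem sat_rel_1 : ∀ r ∈ ([[17, 5, 2, 1, 8, 9, 7, 6, 3, 4, 5, 2, 7, 4, 1, 3, 2, 1, 6, 5, 3, 4, 8, 9, 3, 8, 5, 9, 6, 2, 5, 4, 1, 8, 7, 6, 2], [19, 3, 2, 9, 8, 5, 4, 6, 1, 7, 6, 7, 3, 8, 2, 6, 9, 4, 1, 8, 5, 3, 2, 9, 1, 7, 4, 8, 9, 8, 2, 3, 9, 5, 6, 1, 2, 3, 8, 7], [21, 7, 9, 3, 1, 8, 4, 5, 2, 4, 9, 3, 1, 2, 5, 4, 1, 2, 1, 5, 3, 8, 4, 3, 9, 8, 9, 8, 2, 3, 5, 4, 2, 5, 4, 8, 6, 9], [23, 9, 1, 2, 3, 7, 4, 6, 5, 3, 7, 1, 4, 2, 1, 5, 8, 6, 7, 3, 9, 2, 4, 1, 8, 6, 9, 3, 7, 5, 2, 8, 6, 5, 9, 7, 3, 8], [25, 6, 8, 2, 5, 3, 4, 3, 8, 6, 2, 1, 5, 9, 7, 8, 3, 2, 4, 6, 5, 9, 1, 3, 8, 7, 6, 9, 2, 7, 8, 4, 1, 5, 3, 2, 9, 6], [27, 9, 4, 1, 3, 2, 0, 6, 8, 3, 1, 4, 7, 2, 6,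 5, 6, 1, 3, 2, 4, 7, 8, 5, 1, 4, 9, 6, 0, 3, 7, 2, 4, 5, 4, 5, 6, 7, 1], [29, 4, 9, 2, 0, 8, 1, 6, 5, 9, 8, 0, 7, 6, 4, 5, 6, 4, 1, 3, 4, 7, 8, 6, 5, 3, 0, 6, 2, 8, 4, 9, 5, 1, 4, 0, 2, 8, 7, 1, 3, 6, 9, 5], [31, 4, 6, 9, 0, 2, 1, 5, 8, 7, 6, 3, 4, 8, 2, 1, 7, 5, 2, 6, 0, 3, 9, 1, 4, 8, 7, 9, 5, 6, 5, 8, 6, 7, 4, 0, 2, 3, 5], [33, 5, 9, 1, 2, 7, 4, 3, 6, 0, 8, 5, 7, 9, 1, 4, 8, 6, 0, 5, 3, 7, 2, 4, 6, 8, 9, 3, 5, 2, 3, 4, 7, 6, 1, 8, 9, 0, 3, 5, 7, 4, 8]] : List (List ℕ)), ev Cfsg.Agent.Spor.BC.π r = 1 :=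
  rels_of_checks Cfsg.Agent.Spor.BC.spec (K := 18) (by decide) sat_inv _ [[0], [1], [2], [3], [4], [5], [6], [7], [8], [9], [10], [11], [12], [13], [14], [15], [16], [17]] (by decide) ⟨sat_rel_1_0, sat_rel_1_1, sat_rel_1_2, sat_rel_1_3, sat_rel_1_4, sat_rel_1_5, sat_rel_1_6, sat_rel_1_7, sat_rel_1_8, sat_rel_1_9, sat_rel_1_10, sat_rel_1_11, sat_rel_1_12, sat_rel_1_13, sat_rel_1_14, sat_rel_1_15, sat_rel_1_16, sat_rel_1_17, trivial⟩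

theorem sat_rel : ∀ r ∈ ([[0, 1, 0, 1, 0, 1], [0, 2, 0, 2], [0, 3, 0, 3], [0, 4, 0, 4], [0, 5, 0, 5], [0, 6, 0, 6], [0, 8, 0, 8], [0, 9, 0, 9], [0, 7, 0, 7], [1, 2, 1, 2, 1, 2], [1, 3, 1, 3], [1, 4, 1, 4], [1, 5, 1, 5], [1, 6, 1, 6], [1, 8, 1, 8], [1, 9, 1, 9], [1, 7, 1, 7], [2, 3, 2, 3, 2, 3], [2, 4, 2, 4], [2, 5, 2, 5], [2, 6, 2, 6], [2, 8, 2, 8], [2, 9, 2, 9], [2, 7, 2, 7], [3, 4, 3, 4, 3, 4], [3, 5, 3, 5], [3, 6, 3, 6], [3, 8, 3, 8, 3, 8], [3, 9, 3, 9], [3, 7, 3, 7], [4, 5, 4, 5, 4, 5], [4, 6, 4, 6], [4, 8, 4, 8], [4, 9, 4, 9], [4, 7, 4, 7], [5, 6, 5, 6, 5, 6], [5, 8, 5, 8], [5, 9, 5, 9], [5, 7, 5, 7], [6, 8, 6, 8], [6, 9, 6, 9], [6, 7, 6, 7, 6, 7],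 [8, 9, 8, 9, 8, 9], [8, 7, 8, 7], [9, 7, 9, 7], [3, 2, 1, 3, 4, 5, 3, 8, 9, 3, 2, 1, 3, 4, 5, 3, 8, 9, 3, 2, 1, 3, 4, 5, 3, 8, 9, 3, 2, 1, 3, 4, 5, 3, 8, 9, 3, 2, 1, 3, 4, 5, 3, 8, 9, 3, 2, 1, 3, 4, 5, 3, 8, 9, 3, 2, 1, 3, 4, 5, 3, 8, 9, 3, 2, 1, 3, 4, 5, 3, 8, 9, 3, 2, 1, 3, 4, 5, 3, 8, 9, 3, 2, 1, 3, 4, 5, 3, 8, 9], [0, 1, 2, 3, 4, 5, 8, 0, 1, 2, 3, 4, 5, 8, 0, 1, 2, 3, 4, 5, 8, 0, 1, 2, 3, 4, 5, 8, 0, 1, 2, 3, 4, 5, 8, 0, 1, 2, 3, 4, 5, 8, 0, 1, 2, 3, 4, 5, 8, 0, 1, 2, 3, 4, 5, 8, 0, 1, 2, 3, 4, 5, 8], [11, 9, 4, 8, 5, 1, 6, 9, 2, 7, 4, 5, 3, 1, 2, 1, 8, 6, 4, 3, 7, 9, 2, 6, 1, 7, 4, 5, 3, 8, 9, 3, 2, 4, 5, 8, 3, 2, 6], [13, 7, 2, 1, 5, 3, 8, 4, 6, 2,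 3, 9, 4, 1, 7, 5, 8, 2, 4, 9, 6, 7, 1, 2, 8, 9, 1, 6, 5, 6, 7, 8, 3, 2, 5, 9, 8, 3, 4, 6], [15, 8, 6, 7, 4, 9, 3, 2, 3, 4, 8, 2, 9, 5, 4, 1, 3, 2, 5, 6, 7, 8, 9, 8, 3, 4, 2, 1, 5, 9, 8, 6, 2, 9, 1, 8, 7, 4, 3, 6, 2], [17, 5, 2, 1, 8, 9, 7, 6, 3, 4, 5, 2, 7, 4, 1, 3, 2, 1, 6, 5, 3, 4, 8, 9, 3, 8, 5, 9, 6, 2, 5, 4, 1, 8, 7, 6, 2], [19, 3, 2, 9, 8, 5, 4, 6, 1, 7, 6, 7, 3, 8, 2, 6, 9, 4, 1, 8, 5, 3, 2, 9, 1, 7, 4, 8, 9, 8, 2, 3, 9, 5, 6, 1, 2, 3, 8, 7], [21, 7, 9, 3, 1, 8, 4, 5, 2, 4, 9, 3, 1, 2, 5, 4, 1, 2, 1, 5, 3, 8, 4, 3, 9, 8, 9, 8, 2, 3, 5, 4, 2, 5, 4, 8, 6, 9], [23, 9, 1, 2, 3, 7, 4, 6, 5, 3, 7, 1, 4, 2, 1, 5, 8, 6, 7, 3, 9, 2, 4, 1, 8, 6, 9, 3, 7, 5,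 2, 8, 6, 5, 9, 7, 3, 8], [25, 6, 8, 2, 5, 3, 4, 3, 8, 6, 2, 1, 5, 9, 7, 8, 3, 2, 4, 6, 5, 9, 1, 3, 8, 7, 6, 9, 2, 7, 8, 4, 1, 5, 3, 2, 9, 6], [27, 9, 4, 1, 3, 2, 0, 6, 8, 3, 1, 4, 7, 2, 6, 5, 6, 1, 3, 2, 4, 7, 8, 5, 1, 4, 9, 6, 0, 3, 7, 2, 4, 5, 4, 5, 6, 7, 1], [29, 4, 9, 2, 0, 8, 1, 6, 5, 9, 8, 0, 7, 6, 4, 5, 6, 4, 1, 3, 4, 7, 8, 6, 5, 3, 0, 6, 2, 8, 4, 9, 5, 1, 4, 0, 2, 8, 7, 1, 3, 6, 9, 5], [31, 4, 6, 9, 0, 2, 1, 5, 8, 7, 6, 3, 4, 8, 2, 1, 7, 5, 2, 6, 0, 3, 9, 1, 4, 8, 7, 9, 5, 6, 5, 8, 6, 7, 4, 0, 2, 3, 5], [33, 5, 9, 1, 2, 7, 4, 3, 6, 0, 8, 5, 7, 9, 1, 4, 8, 6, 0, 5, 3, 7, 2, 4, 6, 8, 9, 3, 5, 2, 3, 4, 7, 6, 1, 8, 9, 0, 3, 5, 7, 4, 8]] : List (List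 ℕ)), ev Cfsg.Agent.Spor.BC.π r = 1 :=
  rels_join [[[0, 1, 0, 1, 0, 1], [0, 2, 0, 2], [0, 3, 0, 3], [0, 4, 0, 4], [0, 5, 0, 5], [0, 6, 0, 6], [0, 8, 0, 8], [0, 9, 0, 9], [0, 7, 0, 7], [1, 2, 1, 2, 1, 2], [1, 3, 1, 3], [1, 4, 1, 4], [1, 5, 1, 5], [1, 6, 1, 6], [1, 8, 1, 8], [1, 9, 1, 9], [1, 7, 1, 7], [2, 3, 2, 3, 2, 3], [2, 4, 2, 4], [2, 5, 2, 5], [2, 6, 2, 6], [2, 8, 2, 8], [2, 9, 2, 9], [2, 7, 2, 7], [3, 4, 3, 4, 3, 4], [3, 5, 3, 5], [3, 6, 3, 6], [3, 8, 3, 8, 3, 8], [3, 9, 3, 9], [3, 7, 3, 7], [4, 5, 4, 5, 4, 5], [4, 6, 4, 6], [4, 8, 4, 8], [4, 9, 4, 9], [4, 7, 4, 7], [5, 6, 5, 6, 5, 6], [5, 8, 5, 8], [5, 9, 5, 9], [5, 7, 5, 7], [6, 8, 6, 8], [6, 9, 6,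 9], [6, 7, 6, 7, 6, 7], [8, 9, 8, 9, 8, 9], [8, 7, 8, 7], [9, 7, 9, 7], [3, 2, 1, 3, 4, 5, 3, 8, 9, 3, 2, 1, 3, 4, 5, 3, 8, 9, 3, 2, 1, 3, 4, 5, 3, 8, 9, 3, 2, 1, 3, 4, 5, 3, 8, 9, 3, 2, 1, 3, 4, 5, 3, 8, 9, 3, 2, 1, 3, 4, 5, 3, 8, 9, 3, 2, 1, 3, 4, 5, 3, 8, 9, 3, 2, 1, 3, 4, 5, 3, 8, 9, 3, 2, 1, 3, 4, 5, 3, 8, 9, 3, 2, 1, 3, 4, 5, 3, 8, 9], [0, 1, 2, 3, 4, 5, 8, 0, 1, 2, 3, 4, 5, 8, 0, 1, 2, 3, 4, 5, 8, 0, 1, 2, 3, 4, 5, 8, 0, 1, 2, 3, 4, 5, 8, 0, 1, 2, 3, 4, 5, 8, 0, 1, 2, 3, 4, 5, 8, 0, 1, 2, 3, 4, 5, 8, 0, 1, 2, 3, 4, 5, 8], [11, 9, 4, 8, 5, 1, 6, 9, 2, 7, 4, 5, 3, 1, 2, 1, 8, 6, 4, 3, 7, 9, 2, 6, 1, 7, 4, 5, 3, 8, 9, 3, 2, 4, 5, 8, 3, 2, 6], [13, 7,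 2, 1, 5, 3, 8, 4, 6, 2, 3, 9, 4, 1, 7, 5, 8, 2, 4, 9, 6, 7, 1, 2, 8, 9, 1, 6, 5, 6, 7, 8, 3, 2, 5, 9, 8, 3, 4, 6], [15, 8, 6, 7, 4, 9, 3, 2, 3, 4, 8, 2, 9, 5, 4, 1, 3, 2, 5, 6, 7, 8, 9, 8, 3, 4, 2, 1, 5, 9, 8, 6, 2, 9, 1, 8, 7, 4, 3, 6, 2]], [[17, 5, 2, 1, 8, 9, 7, 6, 3, 4, 5, 2, 7, 4, 1, 3, 2, 1, 6, 5, 3, 4, 8, 9, 3, 8, 5, 9, 6, 2, 5, 4, 1, 8, 7, 6, 2], [19, 3, 2, 9, 8, 5, 4, 6, 1, 7, 6, 7, 3, 8, 2, 6, 9, 4, 1, 8, 5, 3, 2, 9, 1, 7, 4, 8, 9, 8, 2, 3, 9, 5, 6, 1, 2, 3, 8, 7], [21, 7, 9, 3, 1, 8, 4, 5, 2, 4, 9, 3, 1, 2, 5, 4, 1, 2, 1, 5, 3, 8, 4, 3, 9, 8, 9, 8, 2, 3, 5, 4, 2, 5, 4, 8, 6, 9], [23, 9, 1, 2, 3, 7, 4, 6, 5, 3, 7, 1, 4, 2, 1, 5, 8, 6, 7, 3, 9,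 2, 4, 1, 8, 6, 9, 3, 7, 5, 2, 8, 6, 5, 9, 7, 3, 8], [25, 6, 8, 2, 5, 3, 4, 3, 8, 6, 2, 1, 5, 9, 7, 8, 3, 2, 4, 6, 5, 9, 1, 3, 8, 7, 6, 9, 2, 7, 8, 4, 1, 5, 3, 2, 9, 6], [27, 9, 4, 1, 3, 2, 0, 6, 8, 3, 1, 4, 7, 2, 6, 5, 6, 1, 3, 2, 4, 7, 8, 5, 1, 4, 9, 6, 0, 3, 7, 2, 4, 5, 4, 5, 6, 7, 1], [29, 4, 9, 2, 0, 8, 1, 6, 5, 9, 8, 0, 7, 6, 4, 5, 6, 4, 1, 3, 4, 7, 8, 6, 5, 3, 0, 6, 2, 8, 4, 9, 5, 1, 4, 0, 2, 8, 7, 1, 3, 6, 9, 5], [31, 4, 6, 9, 0, 2, 1, 5, 8, 7, 6, 3, 4, 8, 2, 1, 7, 5, 2, 6, 0, 3, 9, 1, 4, 8, 7, 9, 5, 6, 5, 8, 6, 7, 4, 0, 2, 3, 5], [33, 5, 9, 1, 2, 7, 4, 3, 6, 0, 8, 5, 7, 9, 1, 4, 8, 6, 0, 5, 3, 7, 2, 4, 6, 8, 9, 3, 5, 2, 3, 4, 7, 6, 1, 8, 9, 0, 3,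 5, 7, 4, 8]]] ⟨sat_rel_0, sat_rel_1, trivial⟩

theorem sat : Sat Cfsg.Agent.Spor.BC.PX Cfsg.Agent.Spor.BC.π :=
  ⟨Cfsg.Agent.Spor.BC.out, sat_inv, sat_rel⟩

end Cfsg.Agent.Spor.BC
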