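import Cfsg.Agent.Spor.B.Tab
import Cfsg.Agent.Spor.B.Sat
import Cfsg.Agent.Spor.B.Orb

set_option autoImplicit false
set_option Elab.async false
set_option maxRecDepth 100000

namespace Cfsg.Agent.Spor.BC

open Cfsg.Agent.Comp.BN Cfsg.Agent.Comp.DCE Cfsg.Agent.Spor.FiC

def wsK : List (List ℕ) := [[1], [2], [3], [4], [5], [6], [7], [8], [9]]

def w10 : List (List ℕ) := [[0], [1], [2], [3], [4], [5], [6], [7], [8], [9]]

theorem chK_c0 : levelC (subAct Cfsg.Agent.Spor.FiC.M23.act wsK) 15 [] 0 [[0], [1], [2], [3], [4], [5], [6], [7], [8]] 11 1080 = true :=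
  by decide +kernel

theorem chK_l0 : LevelOK (subT Cfsg.Agent.Spor.FiC.M23.π wsK) [] 0 1080 :=
  level_of_check (Cfsg.Agent.Spor.FiC.M23.spec.sub wsK) chK_c0

theorem chK_c1 : levelC (subAct Cfsg.Agent.Spor.FiC.M23.act wsK) 15 [0] 11589 [[0], [1], [2], [3], [4], [5], [7], [8]] 6 3159 = true :=
  by decide +kernel

theorem chK_l1 : LevelOK (subT Cfsg.Agent.Spor.FiC.M23.π wsK) [0] 11589 3159 :=
  level_of_check (Cfsg.Agent.Spor.FiC.M23.spec.sub wsK) chK_c1

theorem chK_c2 : levelC (subAct Cfsg.Agent.Spor.FiC.M23.act wsK) 15 [11589, 0] 1 [[1], [2], [3], [4], [5], [7], [8]] 9 56 = true :=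
  by decide +kernel

theorem chK_l2 : LevelOK (subT Cfsg.Agent.Spor.FiC.M23.π wsK) [11589, 0] 1 56 :=
  level_of_check (Cfsg.Agent.Spor.FiC.M23.spec.sub wsK) chK_c2

theorem chK_c3 : levelC (subAct Cfsg.Agent.Spor.FiC.M23.act wsK) 15 [1, 11589, 0] 3431 [[1], [2], [3], [4], [7], [8]] 6 6480 = true :=
  by decide +kernel

theorem chK_l3 : LevelOK (subT Cfsg.Agent.Spor.FiC.M23.π wsK) [1, 11589, 0] 3431 6480 :=
  level_of_check (Cfsg.Agent.Spor.FiC.M23.spec.sub wsK) chK_c3

theorem chK_c4 : levelC (subAct Cfsg.Agent.Spor.FiC.M23.act wsK) 15 [3431, 1, 11589, 0] 24 [[1], [3], [7]] 1 8 = true :=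
  by decide +kernel

theorem chK_l4 : LevelOK (subT Cfsg.Agent.Spor.FiC.M23.π wsK) [3431, 1, 11589, 0] 24 8 :=
  level_of_check (Cfsg.Agent.Spor.FiC.M23.spec.sub wsK) chK_c4

theorem chK : ChainOK (subT Cfsg.Agent.Spor.FiC.M23.π wsK) [] [(0, 1080), (11589, 3159), (1, 56), (3431, 6480), (24, 8)] :=
  ⟨chK_l0, chK_l1, chK_l2, chK_l3, chK_l4, trivial⟩

noncomputable def DK : ℕ := nat_lit 0xff8000000000000000000000000000000000000000000000000000000000000000000000000000000000000000000000000000000000000000000000000000000000000000000000000000000000000000000000000000000000000000000000000000000000000000000000000000000000000000000000000000000000000000000000000000000000000000000000000000000000000000000000000000000000000000000000000000000000000000000000000000820ffc0000000000000000000000000000000000000000000000000000000000000000000000000000000000000000000000000000000000000000000000000000000000000000000000000000000000000000000000000000000000000000000000000000000000000000000000000000000000000000000000000000000000000000000000000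000000000000000000000000000000000000000002043807fff0000000000000000000000000000000000000000000000000000000000000000000000000000000000000000000000000000000000000000000000000000000000000000000000000000000000000000000000000000000000000000000000000000000000000000000000000000000000000000000000000000000000000006003ff000386073fffffffffff80000000000000000000000000000000000000000000000000000000000000000000000000000000000000000000000000000000000000000000000000000000000000000000000000000000000000000000000000000000000000000000000000000000001a98f01fffe019fc63f9cfcffffffffffffffffffff0000000000000000000000000000000000000000000000000000000000000000000000000000000000000000000000000000000000000000000000000000000000010000000000000000000000000f7c7e3f9f83ffe03f1fcfe7e7e7efffffffffffffffffe00000000000000000000000000000000000000000000000000000000000000000000000000000000000000000000000000000000000000000001f2f99fcfcfc1ff87f3f3f3f7ef7ffffffffffffff000000000000000000000000000000000000000000000000000000000000000000000000000000000002f9be3cfcfdf8ff3f3f7ef7bfffffffffffe00000000000000000000000000000000000000000000000000000000000df39f5f3f7bf3f7ef7bffffffffff8000000000000000000000000000000000000000001cf9ef6fdeff7bdfffffffff000000000000000000000000000000f7b77ef7fdfffffffe00000000000000000000377dff7ffffffe00000000000006fbffffffe000000000ffffffc000007ffff8000fffe00ffe07f8fcf77ff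

theorem invK : invS (subAct M23.act wsK) 9 DK = true :=
  by decide +kernel

theorem sat10 : Sat P23 (subT π w10) := sat.sub (c1 := [(177, 0), (177, 0), (177, 0), (177, 0), (177, 0), (177, 0), (177, 0), (177, 0), (177, 0), (177, 0)]) (c2 := [(0, 0), (3, 0), (6, 0), (9, 0), (12, 0), (15, 0), (18, 0), (21, 0), (24, 0), (27, 0), (30, 0), (33, 0), (36, 0), (39, 0), (42, 0), (45, 0), (48, 0), (51, 0), (54, 0), (57, 0), (60, 0), (63, 0), (66, 0), (69, 0), (72, 0), (75, 0), (78, 0), (81, 0), (84, 0), (87, 0), (90, 0), (93, 0), (96, 0), (99, 0), (102, 0), (105, 0), (108, 0), (111, 0), (114, 0), (117, 0), (120, 0), (123, 0), (126, 0), (129, 0), (132, 0), (135, 0), (138, 0)]) (by decide +kernel)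

/-- the action on the blocks -/
noncomputable def ρ2 : Cfsg.Spor.Fi23 →* Equiv.Perm ℕ := (L23.link.1.hom _ _ sat10).choose

theorem ρ2_ev (W : List ℕ) : ρ2 (ev L23.x W) = ev π (subst w10 W) := by
  rw [map_ev, ρ2, funext (L23.link.1.hom _ _ sat10).choose_spec, ev_subst]

theorem map3 (k : ℕ) : ρ2 (subT L23.x us k) = π k := by
  have h1 := sameC_spec sat (us := us) (cs := [(177, 0), (177, 0), (177, 0), (177, 0), (177, 0), (177, 0), (177, 0), (177, 0), (177, 0), (177, 0), (141, 0), (142, 38), (144, 0), (145, 39), (147, 0), (148, 40), (150, 0), (151, 36), (153, 0), (154, 39), (156, 0), (157, 37), (159, 0), (160, 37), (162, 0), (163, 37), (165, 0), (166, 38), (168, 0), (169, 43), (171, 0), (172, 38), (174, 0), (175, 42)]) (by decide +kernel) [k]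
  rw [ev_subst, ev_cons, ev_cons, ev_nil, ev_nil, mul_one, mul_one] at h1
  rw [← h1, subT, subT, ρ2_ev, nth_prop (fun W => subst w10 W = W) [] us rfl (by decide +kernel) k]

theorem top3 : gen (subT L23.x us) = ⊤ := by
  rw [eq_top_iff, ← L23.link.1.top]
  refine gen_le fun k => ?_
  by_cases hk : k < 10
  · simpa using ev_mem_gen_subT L23.x us [k] ((by decide +kernel : ∀ k < 10, [k] ∈ us) k hk)
  · rw [L23.link.1.sat.out k (not_lt.1 hk)]; exact one_mem _

theorem m3 : M3 (subT L23.x us) act 137632 π ρ2 :=
  ⟨⟨_, spec⟩, fun g => lt_of_invS map3 top3 spec out inv g 0 (by decide), map3⟩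

theorem mapK : (gen (subT L23.x wsK)).map M23.ρ = gen (subT M23.π wsK) := by
  rw [map_gen]; exact congrArg gen (funext fun k => M23.model.map_ev _)

theorem notK (W : List ℕ) (p : ℕ) (h : band (tb DK p) (tb DK (ptW M23.act W p)).not = true) :
    ev L23.x W ∉ gen (subT L23.x wsK) := fun hW => by
  have := invS_spec (M23.spec.sub wsK) (PModel.subT_out M23.π wsK) invK _ (mapK ▸ Subgroup.mem_map_of_mem M23.ρ hW) p
  rw [band_eq, M23.spec.ptW, ← M23.model.map_ev, tb_eq, tb_eq, this] at h
  simp [h.1] at h

theorem hK {G : Type} [Group G] {ι : Cfsg.Spor.Fi23 →* G} {ζ : G} (hk : ∀ k ∈ ks, KP ι ζ (L23.x k) (L23.x (θ k)))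
    (ts : List (List ℕ)) (ht : ts = [[], [33, 33, 31, 5, 30, 32, 32], [28, 24, 29, 26, 25, 26]]) (g : Cfsg.Spor.Fi23) (hg : ρ2 g 0 = 0) :
    ∃ w ∈ ts, ∃ k t', KP ι ζ k t' ∧ g = k * ev (subT L23.x us) w := by
  have := M23.model.fin
  have fx : ∀ W, fixC act [0] W = true → ev (subT L23.x us) W ∈ fixS ρ2 [0] := fun W h b hb => by
    rw [m3.map_ev]; exact fixC_spec spec h b hb
  have a1 : gen (subT L23.x wsK) ≤ fixS ρ2 [0] := gen_le fun k => nth_prop (fun W => ev L23.x W ∈ fixS ρ2 [0]) [] wsK
    (one_mem _) (fun W hW b hb => by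
      rw [ρ2_ev]
      exact fixC_spec spec ((allL_eq (fun W => fixC act [0] (subst w10 W)) wsK).1 (by decide +kernel) W hW) b hb) k
  have a2 := chain_le M23.ρ _ mapK.ge chK
  have a3 := level_card ρ2 ⊤ (π := π) (gen_le fun k => ⟨_, trivial, map3 k⟩) lev
  rw [fixS_nil, top_inf_eq, top_inf_eq, Subgroup.card_top, M23.card] at a3
  change 9904359628800 ≤ _ at a2
  have kp : ∀ k ∈ gen (subT L23.x wsK), ∃ t, KP ι ζ k t := fun k h => kp_of_mem (fun e =>
    nth_prop (fun W => ∃ t, KP ι ζ (ev L23.x W) t) [] wsK ⟨1, KP.one ι ζ⟩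
      (fun W hW => ⟨_, kp_ev hk ((by decide : ∀ W ∈ wsK, ∀ k ∈ W, k ∈ ks) W hW)⟩) e) h
  subst ht
  rcases three_cosets a1 (by omega) (fx [33, 33, 31, 5, 30, 32, 32] (by decide +kernel)) (fx [28, 24, 29, 26, 25, 26] (by decide +kernel))
    (by rw [← ev_subst]; exact notK _ 0 (by decide +kernel)) (by rw [← ev_subst]; exact notK _ 0 (by decide +kernel))
    (by rw [← ev_subst, ← ev_subst, ← ev_invW L23.link.1.sat.inv, ← ev_append, ← appendL_eq]
        exact notK _ 0 (by decide +kernel))
    (g := g) (fun b hb => by rw [List.mem_singleton.1 hb, hg]) with h | h | h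
  all_goals obtain ⟨t, ht⟩ := kp _ h
  · exact ⟨[], by simp, _, t, ht, by simp⟩
  · exact ⟨_, by simp, _, t, ht, (inv_mul_cancel_right _ _).symm⟩
  · exact ⟨_, by simp, _, t, ht, (inv_mul_cancel_right _ _).symm⟩

end Cfsg.Agent.Spor.BC
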