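import Cfsg.Agent.Comp.BitMore2
import Cfsg.Agent.Spor.B.NetD0
import Cfsg.Agent.Spor.B.NetD1
import Cfsg.Agent.Spor.B.NetD2
import Cfsg.Agent.Spor.B.NetD3
import Cfsg.Agent.Spor.B.NetD4
import Cfsg.Agent.Spor.Fi.Low23

set_option autoImplicit false
set_option Elab.async false
set_option maxRecDepth 100000

namespace Cfsg.Agent.Spor.BC

open Cfsg.Agent.Comp.BN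

noncomputable def nets : List Net := [net0, net1, net2, net3, net4, net5, net6, net7, net8, net9, net10, net11, net12, net13, net14, net15, net16, net17, net18, net19, net20, net21, net22, net23, net24, net25, net26, net27, net28, net29, net30, net31, net32, net33]

noncomputable def act : Act := netAct' nets
noncomputable def π : ℕ → Equiv.Perm ℕ := netPerm nets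

theorem spec : act.Spec 147456 π :=
  spec_fast (netAct_spec (AllP.forall (p := fun t => Net.ok 147456 t = true) ⟨ok0, ok1, ok2, ok3, ok4, ok5, ok6, ok7, ok8, ok9, ok10, ok11, ok12, ok13, ok14, ok15, ok16, ok17, ok18, ok19, ok20, ok21, ok22, ok23, ok24, ok25, ok26, ok27, ok28, ok29, ok30, ok31, ok32, ok33, trivial⟩))

theorem out : ∀ k, 34 ≤ k → π k = 1 :=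
  netPerm_out nets

def PX : Pres := ⟨[0, 1, 2, 3, 4, 5, 6, 7, 8, 9, 11, 10, 13, 12, 15, 14, 17, 16, 19, 18, 21, 20, 23, 22, 25, 24, 27, 26, 29, 28, 31, 30, 33, 32],
  [[0, 1, 0, 1, 0, 1],
   [0, 2, 0, 2],
   [0, 3, 0, 3],
   [0, 4, 0, 4],
   [0, 5, 0, 5],
   [0, 6, 0, 6],
   [0, 8, 0, 8],
   [0, 9, 0, 9],
   [0, 7, 0, 7],
   [1, 2, 1, 2, 1, 2],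
   [1, 3, 1, 3],
   [1, 4, 1, 4],
   [1, 5, 1, 5],
   [1, 6, 1, 6],
   [1, 8, 1, 8],
   [1, 9, 1, 9],
   [1, 7, 1, 7],
   [2, 3, 2, 3, 2, 3],
   [2, 4, 2, 4],
   [2, 5, 2, 5],
   [2, 6, 2, 6],
   [2, 8, 2, 8],
   [2, 9, 2, 9],
   [2, 7, 2, 7],
   [3, 4, 3, 4, 3, 4],
   [3, 5, 3, 5],
   [3, 6, 3, 6],
   [3, 8, 3, 8, 3, 8],
   [3, 9, 3, 9],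
   [3, 7, 3, 7],
   [4, 5, 4, 5, 4, 5],
   [4, 6, 4, 6],
   [4, 8, 4, 8],
   [4, 9, 4, 9],
   [4, 7, 4, 7],
   [5, 6, 5, 6, 5, 6],
   [5, 8, 5, 8],
   [5, 9, 5, 9],
   [5, 7, 5, 7],
   [6, 8, 6, 8],
   [6, 9, 6, 9],
   [6, 7, 6, 7, 6, 7],
   [8, 9, 8, 9, 8, 9],
   [8, 7, 8, 7],
   [9, 7, 9, 7],
   [3, 2, 1, 3, 4, 5, 3, 8, 9, 3, 2, 1, 3, 4, 5, 3, 8, 9, 3, 2, 1, 3, 4, 5, 3, 8, 9, 3, 2, 1, 3, 4, 5, 3, 8, 9, 3, 2, 1, 3, 4, 5, 3, 8, 9, 3, 2, 1, 3, 4, 5, 3, 8, 9, 3, 2, 1, 3, 4, 5, 3, 8, 9, 3, 2, 1, 3, 4, 5, 3, 8, 9, 3, 2, 1, 3, 4, 5, 3, 8, 9, 3, 2, 1, 3, 4, 5, 3, 8, 9],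
   [0, 1, 2, 3, 4, 5, 8, 0, 1, 2, 3, 4, 5, 8, 0, 1, 2, 3, 4, 5, 8, 0, 1, 2, 3, 4, 5, 8, 0, 1, 2, 3, 4, 5, 8, 0, 1, 2, 3, 4, 5, 8, 0, 1, 2, 3, 4, 5, 8, 0, 1, 2, 3, 4, 5, 8, 0, 1, 2, 3, 4, 5, 8],
   [11, 9, 4, 8, 5, 1, 6, 9, 2, 7, 4, 5, 3, 1, 2, 1, 8, 6, 4, 3, 7, 9, 2, 6, 1, 7, 4, 5, 3, 8, 9, 3, 2, 4, 5, 8, 3, 2, 6],
   [13, 7, 2, 1, 5, 3, 8, 4, 6, 2, 3, 9, 4, 1, 7, 5, 8, 2, 4, 9, 6, 7, 1, 2, 8, 9, 1, 6, 5, 6, 7, 8, 3, 2, 5, 9, 8, 3, 4, 6],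
   [15, 8, 6, 7, 4, 9, 3, 2, 3, 4, 8, 2, 9, 5, 4, 1, 3, 2, 5, 6, 7, 8, 9, 8, 3, 4, 2, 1, 5, 9, 8, 6, 2, 9, 1, 8, 7, 4, 3, 6, 2],
   [17, 5, 2, 1, 8, 9, 7, 6, 3, 4, 5, 2, 7, 4, 1, 3, 2, 1, 6, 5, 3, 4, 8, 9, 3, 8, 5, 9, 6, 2, 5, 4, 1, 8, 7, 6, 2],
   [19, 3, 2, 9, 8, 5, 4, 6, 1, 7, 6, 7, 3, 8, 2, 6, 9, 4, 1, 8, 5, 3, 2, 9, 1, 7, 4, 8, 9, 8, 2, 3, 9, 5, 6, 1, 2, 3, 8, 7],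
   [21, 7, 9, 3, 1, 8, 4, 5, 2, 4, 9, 3, 1, 2, 5, 4, 1, 2, 1, 5, 3, 8, 4, 3, 9, 8, 9, 8, 2, 3, 5, 4, 2, 5, 4, 8, 6, 9],
   [23, 9, 1, 2, 3, 7, 4, 6, 5, 3, 7, 1, 4, 2, 1, 5, 8, 6, 7, 3, 9, 2, 4, 1, 8, 6, 9, 3, 7, 5, 2, 8, 6, 5, 9, 7, 3, 8],
   [25, 6, 8, 2, 5, 3, 4, 3, 8, 6, 2, 1, 5, 9, 7, 8, 3, 2, 4, 6, 5, 9, 1, 3, 8, 7, 6, 9, 2, 7, 8, 4, 1, 5, 3, 2, 9, 6],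
   [27, 9, 4, 1, 3, 2, 0, 6, 8, 3, 1, 4, 7, 2, 6, 5, 6, 1, 3, 2, 4, 7, 8, 5, 1, 4, 9, 6, 0, 3, 7, 2, 4, 5, 4, 5, 6, 7, 1],
   [29, 4, 9, 2, 0, 8, 1, 6, 5, 9, 8, 0, 7, 6, 4, 5, 6, 4, 1, 3, 4, 7, 8, 6, 5, 3, 0, 6, 2, 8, 4, 9, 5, 1, 4, 0, 2, 8, 7, 1, 3, 6, 9, 5],
   [31, 4, 6, 9, 0, 2, 1, 5, 8, 7, 6, 3, 4, 8, 2, 1, 7, 5, 2, 6, 0, 3, 9, 1, 4, 8, 7, 9, 5, 6, 5, 8, 6, 7, 4, 0, 2, 3, 5],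
   [33, 5, 9, 1, 2, 7, 4, 3, 6, 0, 8, 5, 7, 9, 1, 4, 8, 6, 0, 5, 3, 7, 2, 4, 6, 8, 9, 3, 5, 2, 3, 4, 7, 6, 1, 8, 9, 0, 3, 5, 7, 4, 8]]⟩

def us : List (List ℕ) := [[0], [1], [2], [3], [4], [5], [6], [7], [8], [9], [9, 4, 8, 5, 1, 6, 9, 2, 7, 4, 5, 3, 1, 2, 1, 8, 6, 4, 3, 7, 9, 2, 6, 1, 7, 4, 5, 3, 8, 9, 3, 2, 4, 5, 8, 3, 2, 6], [6, 2, 3, 8, 5, 4, 2, 3, 9, 8, 3, 5, 4, 7, 1, 6, 2, 9, 7, 3, 4, 6, 8, 1, 2, 1, 3, 5, 4, 7, 2, 9, 6, 1, 5, 8, 4, 9], [7, 2, 1, 5, 3, 8, 4, 6, 2, 3, 9, 4, 1, 7, 5, 8, 2, 4, 9, 6, 7, 1, 2, 8, 9, 1, 6, 5, 6, 7, 8, 3, 2, 5, 9, 8, 3, 4, 6], [6, 4, 3, 8, 9, 5, 2, 3, 8, 7, 6, 5, 6, 1, 9, 8, 2, 1, 7, 6, 9, 4, 2, 8, 5, 7, 1, 4, 9, 3, 2, 6, 4, 8, 3, 5, 1,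 2, 7], [8, 6, 7, 4, 9, 3, 2, 3, 4, 8, 2, 9, 5, 4, 1, 3, 2, 5, 6, 7, 8, 9, 8, 3, 4, 2, 1, 5, 9, 8, 6, 2, 9, 1, 8, 7, 4, 3, 6, 2], [2, 6, 3, 4, 7, 8, 1, 9, 2, 6, 8, 9, 5, 1, 2, 4, 3, 8, 9, 8, 7, 6, 5, 2, 3, 1, 4, 5, 9, 2, 8, 4, 3, 2, 3, 9, 4, 7, 6, 8], [5, 2, 1, 8, 9, 7, 6, 3, 4, 5, 2, 7, 4, 1, 3, 2, 1, 6, 5, 3, 4, 8, 9, 3, 8, 5, 9, 6, 2, 5, 4, 1, 8, 7, 6, 2], [2, 6, 7, 8, 1, 4, 5, 2, 6, 9, 5, 8, 3, 9, 8, 4, 3, 5, 6, 1, 2, 3, 1, 4, 7, 2, 5, 4, 3, 6, 7, 9, 8, 1, 2, 5], [3, 2, 9, 8, 5, 4, 6, 1, 7, 6, 7, 3, 8, 2, 6, 9, 4, 1, 8, 5, 3, 2, 9, 1, 7, 4, 8, 9, 8, 2, 3, 9, 5, 6, 1, 2, 3, 8, 7], [7, 8, 3, 2, 1, 6, 5, 9, 3, 2, 8, 9, 8, 4, 7, 1, 9, 2, 3, 5, 8, 1, 4, 9, 6, 2, 8, 3,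 7, 6, 7, 1, 6, 4, 5, 8, 9, 2, 3], [7, 9, 3, 1, 8, 4, 5, 2, 4, 9, 3, 1, 2, 5, 4, 1, 2, 1, 5, 3, 8, 4, 3, 9, 8, 9, 8, 2, 3, 5, 4, 2, 5, 4, 8, 6, 9], [9, 6, 8, 4, 5, 2, 4, 5, 3, 2, 8, 9, 8, 9, 3, 4, 8, 3, 5, 1, 2, 1, 4, 5, 2, 1, 3, 9, 4, 2, 5, 4, 8, 1, 3, 9, 7], [9, 1, 2, 3, 7, 4, 6, 5, 3, 7, 1, 4, 2, 1, 5, 8, 6, 7, 3, 9, 2, 4, 1, 8, 6, 9, 3, 7, 5, 2, 8, 6, 5, 9, 7, 3, 8], [8, 3, 7, 9, 5, 6, 8, 2, 5, 7, 3, 9, 6, 8, 1, 4, 2, 9, 3, 7, 6, 8, 5, 1, 2, 4, 1, 7, 3, 5, 6, 4, 7, 3, 2, 1, 9], [6, 8, 2, 5, 3, 4, 3, 8, 6, 2, 1, 5, 9, 7, 8, 3, 2, 4, 6, 5, 9, 1, 3, 8, 7, 6, 9, 2, 7, 8, 4, 1, 5, 3, 2, 9, 6], [6, 9, 2, 3, 5, 1, 4, 8, 7, 2, 9, 6, 7, 8, 3, 1, 9, 5, 6, 4, 2, 3, 8, 7, 9,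 5, 1, 2, 6, 8, 3, 4, 3, 5, 2, 8, 6], [9, 4, 1, 3, 2, 0, 6, 8, 3, 1, 4, 7, 2, 6, 5, 6, 1, 3, 2, 4, 7, 8, 5, 1, 4, 9, 6, 0, 3, 7, 2, 4, 5, 4, 5, 6, 7, 1], [1, 7, 6, 5, 4, 5, 4, 2, 7, 3, 0, 6, 9, 4, 1, 5, 8, 7, 4, 2, 3, 1, 6, 5, 6, 2, 7, 4, 1, 3, 8, 6, 0, 2, 3, 1, 4, 9], [4, 9, 2, 0, 8, 1, 6, 5, 9, 8, 0, 7, 6, 4, 5, 6, 4, 1, 3, 4, 7, 8, 6, 5, 3, 0, 6, 2, 8, 4, 9, 5, 1, 4, 0, 2, 8, 7, 1, 3, 6, 9, 5], [5, 9, 6, 3, 1, 7, 8, 2, 0, 4, 1, 5, 9, 4, 8, 2, 6, 0, 3, 5, 6, 8, 7, 4, 3, 1, 4, 6, 5, 4, 6, 7, 0, 8, 9, 5, 6, 1, 8, 0, 2, 9, 4], [4, 6, 9, 0, 2, 1, 5, 8, 7, 6, 3, 4, 8, 2, 1, 7, 5, 2, 6, 0, 3, 9, 1, 4, 8, 7, 9, 5, 6, 5, 8, 6, 7, 4, 0, 2, 3, 5], [5, 3, 2, 0, 4, 7, 6, 8, 5,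 6, 5, 9, 7, 8, 4, 1, 9, 3, 0, 6, 2, 5, 7, 1, 2, 8, 4, 3, 6, 7, 8, 5, 1, 2, 0, 9, 6, 4], [5, 9, 1, 2, 7, 4, 3, 6, 0, 8, 5, 7, 9, 1, 4, 8, 6, 0, 5, 3, 7, 2, 4, 6, 8, 9, 3, 5, 2, 3, 4, 7, 6, 1, 8, 9, 0, 3, 5, 7, 4, 8], [8, 4, 7, 5, 3, 0, 9, 8, 1, 6, 7, 4, 3, 2, 5, 3, 9, 8, 6, 4, 2, 7, 3, 5, 0, 6, 8, 4, 1, 9, 7, 5, 8, 0, 6, 3, 4, 7, 2, 1, 9, 5]]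

end Cfsg.Agent.Spor.BC
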