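import Cfsg.Agent.Spor.B.TabB

set_option autoImplicit false
set_option Elab.async false
set_option maxRecDepth 100000

namespace Cfsg.Agent.Spor.BC

open Cfsg.Agent.Comp.BN Cfsg.Agent.Comp.DCE Cfsg.Agent.Spor.FiC

theorem c52 : tabC M23.act [1, 4, 6, 8, 5, 3, 8, 4, 7, 6, 9, 2, 1, 7, 2, 5, 4, 6, 3] t50 t52 = true :=
  by decide +kernel

theorem c53 : tabC M23.act (List.map θ [1, 4, 6, 8, 5, 3, 8, 4, 7, 6, 9, 2, 1, 7, 2, 5, 4, 6, 3]) t51 t53 = true :=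
  by decide +kernel

theorem c54 : tabC M23.act [4, 1, 5, 2, 6, 8, 4, 3, 2, 9, 4, 7, 3, 1, 6, 2, 8] t52 t54 = true :=
  by decide +kernel

theorem c55 : tabC M23.act (List.map θ [4, 1, 5, 2, 6, 8, 4, 3, 2, 9, 4, 7, 3, 1, 6, 2, 8]) t53 t55 = true :=
  by decide +kernel

theorem c56 : tabC M23.act [7, 9, 8, 4, 1, 3, 2, 6, 8, 3, 7, 2, 1, 9, 4, 5, 6, 3, 8] t54 t56 = true :=
  by decide +kernel

theorem c57 : tabC M23.act (List.map θ [7, 9, 8, 4, 1, 3, 2, 6, 8, 3, 7, 2, 1, 9, 4, 5, 6, 3, 8]) t55 t57 = true :=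
  by decide +kernel

theorem c58 : tabC M23.act [6, 3, 5, 9, 1, 7, 2, 4, 6, 3, 7, 1, 4, 6, 5, 2, 3, 4, 1, 8] t56 t58 = true :=
  by decide +kernel

theorem c59 : tabC M23.act (List.map θ [6, 3, 5, 9, 1, 7, 2, 4, 6, 3, 7, 1, 4, 6, 5, 2, 3, 4, 1, 8]) t57 t59 = true :=
  by decide +kernel

theorem c60 : tabC M23.act [2, 5, 7, 9, 1, 4, 3, 6, 5, 6, 8, 4, 2, 3, 8, 2, 9, 7, 5] t58 t60 = true :=
  by decide +kernel

theorem c61 : tabC M23.act (List.map θ [2, 5, 7, 9, 1, 4, 3, 6, 5, 6, 8, 4, 2, 3, 8, 2, 9, 7, 5]) t59 t61 = true :=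
  by decide +kernel

theorem c62 : tabC M23.act [3, 6, 9, 2, 8, 4, 5, 7, 4, 9, 5, 6, 7, 1, 8, 3, 9, 4] t60 t62 = true :=
  by decide +kernel

theorem c63 : tabC M23.act (List.map θ [3, 6, 9, 2, 8, 4, 5, 7, 4, 9, 5, 6, 7, 1, 8, 3, 9, 4]) t61 t63 = true :=
  by decide +kernel

theorem c64 : tabC M23.act [9, 6, 3, 8, 7, 4, 1, 6, 3, 7, 5, 0, 1, 9, 2, 8, 0, 3, 4, 6, 5, 2, 8, 1, 3, 2, 0, 7, 9, 8, 4] t62 t64 = true :=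
  by decide +kernel

theorem c65 : tabC M23.act [7, 3, 4, 8, 6, 9, 1, 2, 5, 3, 4, 5, 0, 2, 6, 8, 3, 1, 4, 9] t64 t65 = true :=
  by decide +kernel

theorem c66 : tabC M23.act [3, 1, 4, 0, 8, 9, 7, 6, 5, 4, 8, 5, 2, 6, 4, 9, 3, 7, 8, 1] t65 t66 = true :=
  by decide +kernel

theorem c67 : tabC M23.act [0, 2, 4, 1, 3, 9, 7, 5, 0, 8, 4, 2, 9, 8, 5, 3, 6, 1] t66 t67 = true :=
  by decide +kernel

theorem c68 : tabC M23.act [8, 5, 1, 4, 0, 7, 6, 3, 2, 9, 4, 8, 1, 0, 3, 5, 6] t67 t68 = true :=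
  by decide +kernel

theorem c69 : tabC M23.act [4, 9, 7, 5, 6, 3, 8, 7, 2, 3, 9, 1, 4, 5, 2, 1, 4, 0, 5, 8, 6] t68 t69 = true :=
  by decide +kernel

theorem c70 : tabC M23.act [6, 9, 1, 8, 0, 4, 5, 3, 2, 6, 8, 7, 3, 9, 2, 3, 8, 4] t69 t70 = true :=
  by decide +kernel

theorem c71 : tabC M23.act [6, 3, 8, 5, 9, 7, 4, 2, 1, 8, 9, 0, 2, 5, 3, 1, 6, 7, 5, 4, 8, 3] t70 t71 = true :=
  by decide +kernel

theorem c72 : tabC M23.act [5, 3, 7, 2, 6, 9, 4, 1, 5, 0, 8, 4, 7, 9, 3, 1, 2] t71 t72 = true :=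
  by decide +kernel

theorem c73 : tabC M23.act [1, 4, 0, 9, 3, 7, 6, 2, 5, 7, 3, 2, 4, 1, 6, 8] t72 t73 = true :=
  by decide +kernel

theorem c74 : tabC M23.act [9, 4, 1, 8, 2, 7, 3, 6, 2, 9, 3, 5, 4, 6, 8, 1, 0] t73 t74 = true :=
  by decide +kernel

theorem c75 : tabC M23.act [8, 1, 3, 2, 9, 5, 0, 7, 8, 1, 6, 5, 7, 2, 0, 4, 5] t74 t75 = true :=
  by decide +kernel

theorem c76 : tabC M23.act [6, 5, 9, 3, 8, 4, 7, 2, 0, 5, 4, 9, 3, 8, 1, 2, 6] t75 t76 = true :=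
  by decide +kernel

theorem c77 : tabC M23.act [6, 8, 5, 0, 7, 4, 9, 8, 1, 2, 6, 5, 3, 6, 5, 1, 4, 9, 2] t76 t77 = true :=
  by decide +kernel

theorem c78 : tabC M23.act [8, 2, 1, 4, 7, 0, 9, 3, 6, 8, 4, 1, 3, 9, 4, 2, 8, 7, 5, 0, 9] t77 t78 = true :=
  by decide +kernel

theorem c79 : tabC M23.act [2, 5, 1, 3, 9, 6, 8, 7, 5, 4, 2, 0, 9, 8, 3, 6, 1] t78 t79 = true :=
  by decide +kernel

theorem c80 : tabC M23.act [1, 7, 2, 6, 9, 4, 3, 7, 5, 2, 6, 8, 1, 4, 3, 7, 4, 5, 9, 6] t79 t80 = true :=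
  by decide +kernel

theorem c81 : tabC M23.act [1, 2, 4, 9, 6, 7, 8, 5, 3, 1, 0, 2, 8, 3, 4, 9, 5, 6, 1] t80 t81 = true :=
  by decide +kernel

theorem c82 : tabC M23.act [9, 6, 8, 5, 1, 4, 7, 3, 2, 3, 6, 4, 7, 8, 9, 1] t81 t82 = true :=
  by decide +kernel

theorem c83 : tabC M23.act [8, 5, 2, 6, 0, 3, 1, 2, 5, 0, 9, 8, 7, 9, 4, 5, 6, 3, 1, 7, 8] t82 t83 = true :=
  by decide +kernel

theorem c84 : tabC M23.act [7, 2, 8, 4, 0, 1, 3, 4, 6, 9, 5, 8, 7, 9, 3, 2, 0] t83 t84 = true :=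
  by decide +kernel

theorem c85 : tabC M23.act [9, 4, 1, 2, 5, 3, 0, 6, 8, 1, 5, 7, 4, 6, 9, 8, 3, 2, 5, 7] t84 t85 = true :=
  by decide +kernel

theorem c86 : tabC M23.act [4, 7, 0, 1, 3, 2, 6, 5, 7, 6, 0, 3, 2, 9, 4, 5, 6, 3, 7, 1, 0, 4, 8] t85 t86 = true :=
  by decide +kernel

theorem c87 : tabC M23.act [1, 2, 4, 9, 7, 3, 5, 8, 0, 6, 2, 7, 1, 0, 5, 9, 3] t86 t87 = true :=
  by decide +kernel

theorem c88 : tabC M23.act [3, 0, 1, 6, 9, 4, 8, 2, 5, 4, 5, 0, 1, 7, 6, 7, 2, 0, 9, 3, 5, 4] t87 t88 = true :=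
  by decide +kernel

theorem c89 : tabC M23.act [4, 9, 5, 1, 8, 0, 6, 7, 5, 1, 9, 3, 2, 0, 1, 3, 6, 8, 2, 7, 0, 4, 9] t88 t89 = true :=
  by decide +kernel

theorem c90 : tabC M23.act [1, 0, 2, 9, 5, 6, 4, 3, 2, 4, 1, 5, 7, 0, 6, 4, 1, 3] t89 t90 = true :=
  by decide +kernel

theorem c91 : tabC M23.act [4, 5, 3, 2, 6, 1, 7, 0, 4, 2, 9, 5, 6, 5, 7, 4, 3, 8, 1] t90 t91 = true :=
  by decide +kernel

theorem c92 : tabC M23.act [8, 3, 6, 2, 1, 0, 5, 7, 4, 9, 2, 6, 8, 1, 5, 4] t91 t92 = true :=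
  by decide +kernel

theorem c93 : tabC M23.act [5, 8, 0, 3, 7, 2, 6, 4, 3, 2, 8, 4, 7, 9, 6, 5, 3, 2] t92 t93 = true :=
  by decide +kernel

theorem c94 : tabC M23.act [5, 4, 9, 0, 3, 8, 7, 2, 6, 5, 3, 8, 2, 1, 7, 9] t93 t94 = true :=
  by decide +kernel

theorem c95 : tabC M23.act [9, 0, 8, 6, 7, 4, 1, 2, 0, 5, 9, 6, 1, 3, 4, 7, 2, 8, 0, 5] t94 t95 = true :=
  by decide +kernel

theorem c96 : tabC M23.act [9, 4, 8, 5, 1, 6, 9, 2, 7, 4, 5, 3, 1, 2, 1, 8, 6, 4, 3, 7, 9, 2, 6, 1, 7, 4, 5, 3, 8, 9, 3, 2, 4, 5, 8, 3, 2, 6] tid t96 = true :=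
  by decide +kernel

end Cfsg.Agent.Spor.BC
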