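import Cfsg.Agent.Spor.B.TabB

set_option autoImplicit false
set_option Elab.async false
set_option maxRecDepth 100000

namespace Cfsg.Agent.Spor.BC

open Cfsg.Agent.Comp.BN Cfsg.Agent.Comp.DCE Cfsg.Agent.Spor.FiC

theorem c97 : tabC M23.act [6, 2, 3, 8, 5, 4, 2, 3, 9, 8, 3, 5, 4, 7, 1, 6, 2, 9, 7, 3, 4, 6, 8, 1, 2, 1, 3, 5, 4, 7, 2, 9, 6, 1, 5, 8, 4, 9] tid t97 = true :=
  by decide +kernel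

theorem c98 : tabC M23.act [7, 2, 1, 5, 3, 8, 4, 6, 2, 3, 9, 4, 1, 7, 5, 8, 2, 4, 9, 6, 7, 1, 2, 8, 9, 1, 6, 5, 6, 7, 8, 3, 2, 5, 9, 8, 3, 4, 6] tid t98 = true :=
  by decide +kernel

theorem c99 : tabC M23.act [6, 4, 3, 8, 9, 5, 2, 3, 8, 7, 6, 5, 6, 1, 9, 8, 2, 1, 7, 6, 9, 4, 2, 8, 5, 7, 1, 4, 9, 3, 2, 6, 4, 8, 3, 5, 1, 2, 7] tid t99 = true :=
  by decide +kernel

theorem c100 : tabC M23.act [8, 6, 7, 4, 9, 3, 2, 3, 4, 8, 2, 9, 5, 4, 1, 3, 2, 5, 6, 7, 8, 9, 8, 3, 4, 2, 1, 5, 9, 8, 6, 2, 9, 1, 8, 7, 4, 3, 6, 2] tid t100 = true :=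
  by decide +kernel

theorem c101 : tabC M23.act [2, 6, 3, 4, 7, 8, 1, 9, 2, 6, 8, 9, 5, 1, 2, 4, 3, 8, 9, 8, 7, 6, 5, 2, 3, 1, 4, 5, 9, 2, 8, 4, 3, 2, 3, 9, 4, 7, 6, 8] tid t101 = true :=
  by decide +kernel

theorem c102 : tabC M23.act [5, 2, 1, 8, 9, 7, 6, 3, 4, 5, 2, 7, 4, 1, 3, 2, 1, 6, 5, 3, 4, 8, 9, 3, 8, 5, 9, 6, 2, 5, 4, 1, 8, 7, 6, 2] tid t102 = true :=
  by decide +kernel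

theorem c103 : tabC M23.act [2, 6, 7, 8, 1, 4, 5, 2, 6, 9, 5, 8, 3, 9, 8, 4, 3, 5, 6, 1, 2, 3, 1, 4, 7, 2, 5, 4, 3, 6, 7, 9, 8, 1, 2, 5] tid t103 = true :=
  by decide +kernel

theorem c104 : tabC M23.act [3, 2, 9, 8, 5, 4, 6, 1, 7, 6, 7, 3, 8, 2, 6, 9, 4, 1, 8, 5, 3, 2, 9, 1, 7, 4, 8, 9, 8, 2, 3, 9, 5, 6, 1, 2, 3, 8, 7] tid t104 = true :=
  by decide +kernel

theorem c105 : tabC M23.act [7, 8, 3, 2, 1, 6, 5, 9, 3, 2, 8, 9, 8, 4, 7, 1, 9, 2, 3, 5, 8, 1, 4, 9, 6, 2, 8, 3, 7, 6, 7, 1, 6, 4, 5, 8, 9, 2, 3] tid t105 = true :=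
  by decide +kernel

theorem c106 : tabC M23.act [7, 9, 3, 1, 8, 4, 5, 2, 4, 9, 3, 1, 2, 5, 4, 1, 2, 1, 5, 3, 8, 4, 3, 9, 8, 9, 8, 2, 3, 5, 4, 2, 5, 4, 8, 6, 9] tid t106 = true :=
  by decide +kernel

theorem c107 : tabC M23.act [9, 6, 8, 4, 5, 2, 4, 5, 3, 2, 8, 9, 8, 9, 3, 4, 8, 3, 5, 1, 2, 1, 4, 5, 2, 1, 3, 9, 4, 2, 5, 4, 8, 1, 3, 9, 7] tid t107 = true :=
  by decide +kernel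

theorem c108 : tabC M23.act [9, 1, 2, 3, 7, 4, 6, 5, 3, 7, 1, 4, 2, 1, 5, 8, 6, 7, 3, 9, 2, 4, 1, 8, 6, 9, 3, 7, 5, 2, 8, 6, 5, 9, 7, 3, 8] tid t108 = true :=
  by decide +kernel

theorem c109 : tabC M23.act [8, 3, 7, 9, 5, 6, 8, 2, 5, 7, 3, 9, 6, 8, 1, 4, 2, 9, 3, 7, 6, 8, 5, 1, 2, 4, 1, 7, 3, 5, 6, 4, 7, 3, 2, 1, 9] tid t109 = true :=
  by decide +kernel

theorem c110 : tabC M23.act [6, 8, 2, 5, 3, 4, 3, 8, 6, 2, 1, 5, 9, 7, 8, 3, 2, 4, 6, 5, 9, 1, 3, 8, 7, 6, 9, 2, 7, 8, 4, 1, 5, 3, 2, 9, 6] tid t110 = true :=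
  by decide +kernel

theorem c111 : tabC M23.act [6, 9, 2, 3, 5, 1, 4, 8, 7, 2, 9, 6, 7, 8, 3, 1, 9, 5, 6, 4, 2, 3, 8, 7, 9, 5, 1, 2, 6, 8, 3, 4, 3, 5, 2, 8, 6] tid t111 = true :=
  by decide +kernel

theorem c112 : tabC M23.act [9, 4, 1, 3, 2, 0, 6, 8, 3, 1, 4, 7, 2, 6, 5, 6, 1, 3, 2, 4, 7, 8, 5, 1, 4, 9, 6, 0, 3, 7, 2, 4, 5, 4, 5, 6, 7, 1] tid t112 = true :=
  by decide +kernel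

theorem c113 : tabC M23.act [1, 7, 6, 5, 4, 5, 4, 2, 7, 3, 0, 6, 9, 4, 1, 5, 8, 7, 4, 2, 3, 1, 6, 5, 6, 2, 7, 4, 1, 3, 8, 6, 0, 2, 3, 1, 4, 9] tid t113 = true :=
  by decide +kernel

theorem c114 : tabC M23.act [4, 9, 2, 0, 8, 1, 6, 5, 9, 8, 0, 7, 6, 4, 5, 6, 4, 1, 3, 4, 7, 8, 6, 5, 3, 0, 6, 2, 8, 4, 9, 5, 1, 4, 0, 2, 8, 7, 1, 3, 6, 9, 5] tid t114 = true :=
  by decide +kernel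

theorem c115 : tabC M23.act [5, 9, 6, 3, 1, 7, 8, 2, 0, 4, 1, 5, 9, 4, 8, 2, 6, 0, 3, 5, 6, 8, 7, 4, 3, 1, 4, 6, 5, 4, 6, 7, 0, 8, 9, 5, 6, 1, 8, 0, 2, 9, 4] tid t115 = true :=
  by decide +kernel

theorem c116 : tabC M23.act [4, 6, 9, 0, 2, 1, 5, 8, 7, 6, 3, 4, 8, 2, 1, 7, 5, 2, 6, 0, 3, 9, 1, 4, 8, 7, 9, 5, 6, 5, 8, 6, 7, 4, 0, 2, 3, 5] tid t116 = true :=
  by decide +kernel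

theorem c117 : tabC M23.act [5, 3, 2, 0, 4, 7, 6, 8, 5, 6, 5, 9, 7, 8, 4, 1, 9, 3, 0, 6, 2, 5, 7, 1, 2, 8, 4, 3, 6, 7, 8, 5, 1, 2, 0, 9, 6, 4] tid t117 = true :=
  by decide +kernel

theorem c118 : tabC M23.act [5, 9, 1, 2, 7, 4, 3, 6, 0, 8, 5, 7, 9, 1, 4, 8, 6, 0, 5, 3, 7, 2, 4, 6, 8, 9, 3, 5, 2, 3, 4, 7, 6, 1, 8, 9, 0, 3, 5, 7, 4, 8] tid t118 = true :=
  by decide +kernel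

theorem c119 : tabC M23.act [8, 4, 7, 5, 3, 0, 9, 8, 1, 6, 7, 4, 3, 2, 5, 3, 9, 8, 6, 4, 2, 7, 3, 5, 0, 6, 8, 4, 1, 9, 7, 5, 8, 0, 6, 3, 4, 7, 2, 1, 9, 5] tid t119 = true :=
  by decide +kernel

end Cfsg.Agent.Spor.BC
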