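import Cfsg.Agent.Spor.B.TabC0
import Cfsg.Agent.Spor.B.TabC1
import Cfsg.Agent.Spor.B.TabC2
import Cfsg.Agent.Spor.B.Net

set_option autoImplicit false
set_option Elab.async false
set_option maxRecDepth 100000

namespace Cfsg.Agent.Spor.BC

open Cfsg.Agent.Comp.BN Cfsg.Agent.Comp.DCE Cfsg.Agent.Spor.FiC

theorem w0 : GW M23.ρ L23.x 31671 t0 [0] :=
  gid.step th c0

theorem g0 : G1 M23.ρ L23.x 31671 t0 :=
  ⟨_, w0⟩

theorem w1 : GW M23.ρ L23.x 31671 t1 [1] :=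
  gid.step th c1

theorem p1 : G2 M23.ρ L23.x 31671 ks θ t1 t9 :=
  (g2_id gid).step th (by decide) c1 k1

theorem g1 : G1 M23.ρ L23.x 31671 t1 :=
  p1.left

theorem w2 : GW M23.ρ L23.x 31671 t2 [2] :=
  gid.step th c2

theorem p2 : G2 M23.ρ L23.x 31671 ks θ t2 t8 :=
  (g2_id gid).step th (by decide) c2 k2

theorem g2 : G1 M23.ρ L23.x 31671 t2 :=
  p2.left

theorem w3 : GW M23.ρ L23.x 31671 t3 [3] :=
  gid.step th c3

theorem p3 : G2 M23.ρ L23.x 31671 ks θ t3 t3 :=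
  (g2_id gid).step th (by decide) c3 k3

theorem g3 : G1 M23.ρ L23.x 31671 t3 :=
  p3.left

theorem w4 : GW M23.ρ L23.x 31671 t4 [4] :=
  gid.step th c4

theorem p4 : G2 M23.ρ L23.x 31671 ks θ t4 t4 :=
  (g2_id gid).step th (by decide) c4 k4

theorem g4 : G1 M23.ρ L23.x 31671 t4 :=
  p4.left

theorem w5 : GW M23.ρ L23.x 31671 t5 [5] :=
  gid.step th c5

theorem p5 : G2 M23.ρ L23.x 31671 ks θ t5 t5 :=
  (g2_id gid).step th (by decide) c5 k5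

theorem g5 : G1 M23.ρ L23.x 31671 t5 :=
  p5.left

theorem w6 : GW M23.ρ L23.x 31671 t6 [6] :=
  gid.step th c6

theorem p6 : G2 M23.ρ L23.x 31671 ks θ t6 t6 :=
  (g2_id gid).step th (by decide) c6 k6

theorem g6 : G1 M23.ρ L23.x 31671 t6 :=
  p6.left

theorem w7 : GW M23.ρ L23.x 31671 t7 [7] :=
  gid.step th c7

theorem p7 : G2 M23.ρ L23.x 31671 ks θ t7 t7 :=
  (g2_id gid).step th (by decide) c7 k7

theorem g7 : G1 M23.ρ L23.x 31671 t7 :=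
  p7.left

theorem w8 : GW M23.ρ L23.x 31671 t8 [8] :=
  gid.step th c8

theorem p8 : G2 M23.ρ L23.x 31671 ks θ t8 t2 :=
  (g2_id gid).step th (by decide) c8 k8

theorem g8 : G1 M23.ρ L23.x 31671 t8 :=
  p8.left

theorem w9 : GW M23.ρ L23.x 31671 t9 [9] :=
  gid.step th c9

theorem p9 : G2 M23.ρ L23.x 31671 ks θ t9 t1 :=
  (g2_id gid).step th (by decide) c9 k9

theorem g9 : G1 M23.ρ L23.x 31671 t9 :=
  p9.left

theorem p10 : G2 M23.ρ L23.x 31671 ks θ t10 t11 :=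
  (g2_id gid).step th (by decide) c10 c11

theorem g10 : G1 M23.ρ L23.x 31671 t10 :=
  p10.left

theorem p11 : G2 M23.ρ L23.x 31671 ks θ t11 t10 :=
  p10.symm hθ

theorem g11 : G1 M23.ρ L23.x 31671 t11 :=
  p11.left

theorem p12 : G2 M23.ρ L23.x 31671 ks θ t12 t13 :=
  p10.step th (by decide) c12 c13

theorem g12 : G1 M23.ρ L23.x 31671 t12 :=
  p12.left

theorem p13 : G2 M23.ρ L23.x 31671 ks θ t13 t12 :=
  p12.symm hθ

theorem g13 : G1 M23.ρ L23.x 31671 t13 :=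
  p13.left

theorem p14 : G2 M23.ρ L23.x 31671 ks θ t14 t15 :=
  p12.step th (by decide) c14 c15

theorem g14 : G1 M23.ρ L23.x 31671 t14 :=
  p14.left

theorem p15 : G2 M23.ρ L23.x 31671 ks θ t15 t14 :=
  p14.symm hθ

theorem g15 : G1 M23.ρ L23.x 31671 t15 :=
  p15.left

theorem p16 : G2 M23.ρ L23.x 31671 ks θ t16 t17 :=
  p14.step th (by decide) c16 c17

theorem g16 : G1 M23.ρ L23.x 31671 t16 :=
  p16.left

theorem p17 : G2 M23.ρ L23.x 31671 ks θ t17 t16 :=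
  p16.symm hθ

theorem g17 : G1 M23.ρ L23.x 31671 t17 :=
  p17.left

theorem p18 : G2 M23.ρ L23.x 31671 ks θ t18 t19 :=
  p16.step th (by decide) c18 c19

theorem g18 : G1 M23.ρ L23.x 31671 t18 :=
  p18.left

theorem p19 : G2 M23.ρ L23.x 31671 ks θ t19 t18 :=
  p18.symm hθ

theorem g19 : G1 M23.ρ L23.x 31671 t19 :=
  p19.left

theorem p20 : G2 M23.ρ L23.x 31671 ks θ t20 t21 :=
  p18.step th (by decide) c20 c21

theorem g20 : G1 M23.ρ L23.x 31671 t20 :=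
  p20.left

theorem p21 : G2 M23.ρ L23.x 31671 ks θ t21 t20 :=
  p20.symm hθ

theorem g21 : G1 M23.ρ L23.x 31671 t21 :=
  p21.left

theorem p22 : G2 M23.ρ L23.x 31671 ks θ t22 t23 :=
  p20.step th (by decide) c22 c23

theorem g22 : G1 M23.ρ L23.x 31671 t22 :=
  p22.left

theorem p23 : G2 M23.ρ L23.x 31671 ks θ t23 t22 :=
  p22.symm hθ

theorem g23 : G1 M23.ρ L23.x 31671 t23 :=
  p23.left

theorem p24 : G2 M23.ρ L23.x 31671 ks θ t24 t25 :=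
  p22.step th (by decide) c24 c25

theorem g24 : G1 M23.ρ L23.x 31671 t24 :=
  p24.left

theorem p25 : G2 M23.ρ L23.x 31671 ks θ t25 t24 :=
  p24.symm hθ

theorem g25 : G1 M23.ρ L23.x 31671 t25 :=
  p25.left

theorem p26 : G2 M23.ρ L23.x 31671 ks θ t26 t27 :=
  p24.step th (by decide) c26 c27

theorem g26 : G1 M23.ρ L23.x 31671 t26 :=
  p26.left

theorem p27 : G2 M23.ρ L23.x 31671 ks θ t27 t26 :=
  p26.symm hθ

theorem g27 : G1 M23.ρ L23.x 31671 t27 :=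
  p27.left

theorem p28 : G2 M23.ρ L23.x 31671 ks θ t28 t29 :=
  p26.step th (by decide) c28 c29

theorem g28 : G1 M23.ρ L23.x 31671 t28 :=
  p28.left

theorem p29 : G2 M23.ρ L23.x 31671 ks θ t29 t28 :=
  p28.symm hθ

theorem g29 : G1 M23.ρ L23.x 31671 t29 :=
  p29.left

theorem p30 : G2 M23.ρ L23.x 31671 ks θ t30 t31 :=
  p28.step th (by decide) c30 c31

theorem g30 : G1 M23.ρ L23.x 31671 t30 :=
  p30.left

theorem p31 : G2 M23.ρ L23.x 31671 ks θ t31 t30 :=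
  p30.symm hθ

theorem g31 : G1 M23.ρ L23.x 31671 t31 :=
  p31.left

theorem p32 : G2 M23.ρ L23.x 31671 ks θ t32 t33 :=
  p30.step th (by decide) c32 c33

theorem g32 : G1 M23.ρ L23.x 31671 t32 :=
  p32.left

theorem p33 : G2 M23.ρ L23.x 31671 ks θ t33 t32 :=
  p32.symm hθ

theorem g33 : G1 M23.ρ L23.x 31671 t33 :=
  p33.left

theorem p34 : G2 M23.ρ L23.x 31671 ks θ t34 t35 :=
  p32.step th (by decide) c34 c35

theorem g34 : G1 M23.ρ L23.x 31671 t34 :=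
  p34.left

theorem p35 : G2 M23.ρ L23.x 31671 ks θ t35 t34 :=
  p34.symm hθ

theorem g35 : G1 M23.ρ L23.x 31671 t35 :=
  p35.left

theorem p36 : G2 M23.ρ L23.x 31671 ks θ t36 t37 :=
  p34.step th (by decide) c36 c37

theorem g36 : G1 M23.ρ L23.x 31671 t36 :=
  p36.left

theorem p37 : G2 M23.ρ L23.x 31671 ks θ t37 t36 :=
  p36.symm hθ

theorem g37 : G1 M23.ρ L23.x 31671 t37 :=
  p37.left

theorem p38 : G2 M23.ρ L23.x 31671 ks θ t38 t39 :=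
  p36.step th (by decide) c38 c39

theorem g38 : G1 M23.ρ L23.x 31671 t38 :=
  p38.left

theorem p39 : G2 M23.ρ L23.x 31671 ks θ t39 t38 :=
  p38.symm hθ

theorem g39 : G1 M23.ρ L23.x 31671 t39 :=
  p39.left

theorem p40 : G2 M23.ρ L23.x 31671 ks θ t40 t41 :=
  p38.step th (by decide) c40 c41

theorem g40 : G1 M23.ρ L23.x 31671 t40 :=
  p40.left

theorem p41 : G2 M23.ρ L23.x 31671 ks θ t41 t40 :=
  p40.symm hθ

theorem g41 : G1 M23.ρ L23.x 31671 t41 :=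
  p41.left

theorem p42 : G2 M23.ρ L23.x 31671 ks θ t42 t43 :=
  p40.step th (by decide) c42 c43

theorem g42 : G1 M23.ρ L23.x 31671 t42 :=
  p42.left

theorem p43 : G2 M23.ρ L23.x 31671 ks θ t43 t42 :=
  p42.symm hθ

theorem g43 : G1 M23.ρ L23.x 31671 t43 :=
  p43.left

theorem p44 : G2 M23.ρ L23.x 31671 ks θ t44 t45 :=
  p42.step th (by decide) c44 c45

theorem g44 : G1 M23.ρ L23.x 31671 t44 :=
  p44.left

theorem p45 : G2 M23.ρ L23.x 31671 ks θ t45 t44 :=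
  p44.symm hθ

theorem g45 : G1 M23.ρ L23.x 31671 t45 :=
  p45.left

theorem p46 : G2 M23.ρ L23.x 31671 ks θ t46 t47 :=
  p44.step th (by decide) c46 c47

theorem g46 : G1 M23.ρ L23.x 31671 t46 :=
  p46.left

theorem p47 : G2 M23.ρ L23.x 31671 ks θ t47 t46 :=
  p46.symm hθ

theorem g47 : G1 M23.ρ L23.x 31671 t47 :=
  p47.left

theorem p48 : G2 M23.ρ L23.x 31671 ks θ t48 t49 :=
  p46.step th (by decide) c48 c49

theorem g48 : G1 M23.ρ L23.x 31671 t48 :=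
  p48.left

theorem p49 : G2 M23.ρ L23.x 31671 ks θ t49 t48 :=
  p48.symm hθ

theorem g49 : G1 M23.ρ L23.x 31671 t49 :=
  p49.left

theorem p50 : G2 M23.ρ L23.x 31671 ks θ t50 t51 :=
  p48.step th (by decide) c50 c51

theorem g50 : G1 M23.ρ L23.x 31671 t50 :=
  p50.left

theorem p51 : G2 M23.ρ L23.x 31671 ks θ t51 t50 :=
  p50.symm hθ

theorem g51 : G1 M23.ρ L23.x 31671 t51 :=
  p51.left

theorem p52 : G2 M23.ρ L23.x 31671 ks θ t52 t53 :=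
  p50.step th (by decide) c52 c53

theorem g52 : G1 M23.ρ L23.x 31671 t52 :=
  p52.left

theorem p53 : G2 M23.ρ L23.x 31671 ks θ t53 t52 :=
  p52.symm hθ

theorem g53 : G1 M23.ρ L23.x 31671 t53 :=
  p53.left

theorem p54 : G2 M23.ρ L23.x 31671 ks θ t54 t55 :=
  p52.step th (by decide) c54 c55

theorem g54 : G1 M23.ρ L23.x 31671 t54 :=
  p54.left

theorem p55 : G2 M23.ρ L23.x 31671 ks θ t55 t54 :=
  p54.symm hθ

theorem g55 : G1 M23.ρ L23.x 31671 t55 :=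
  p55.left

theorem p56 : G2 M23.ρ L23.x 31671 ks θ t56 t57 :=
  p54.step th (by decide) c56 c57

theorem g56 : G1 M23.ρ L23.x 31671 t56 :=
  p56.left

theorem p57 : G2 M23.ρ L23.x 31671 ks θ t57 t56 :=
  p56.symm hθ

theorem g57 : G1 M23.ρ L23.x 31671 t57 :=
  p57.left

theorem p58 : G2 M23.ρ L23.x 31671 ks θ t58 t59 :=
  p56.step th (by decide) c58 c59

theorem g58 : G1 M23.ρ L23.x 31671 t58 :=
  p58.left

theorem p59 : G2 M23.ρ L23.x 31671 ks θ t59 t58 :=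
  p58.symm hθ

theorem g59 : G1 M23.ρ L23.x 31671 t59 :=
  p59.left

theorem p60 : G2 M23.ρ L23.x 31671 ks θ t60 t61 :=
  p58.step th (by decide) c60 c61

theorem g60 : G1 M23.ρ L23.x 31671 t60 :=
  p60.left

theorem p61 : G2 M23.ρ L23.x 31671 ks θ t61 t60 :=
  p60.symm hθ

theorem g61 : G1 M23.ρ L23.x 31671 t61 :=
  p61.left

theorem p62 : G2 M23.ρ L23.x 31671 ks θ t62 t63 :=
  p60.step th (by decide) c62 c63

theorem g62 : G1 M23.ρ L23.x 31671 t62 :=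
  p62.left

theorem p63 : G2 M23.ρ L23.x 31671 ks θ t63 t62 :=
  p62.symm hθ

theorem g63 : G1 M23.ρ L23.x 31671 t63 :=
  p63.left

theorem g64 : G1 M23.ρ L23.x 31671 t64 :=
  g62.step th c64

theorem g65 : G1 M23.ρ L23.x 31671 t65 :=
  g64.step th c65

theorem g66 : G1 M23.ρ L23.x 31671 t66 :=
  g65.step th c66

theorem g67 : G1 M23.ρ L23.x 31671 t67 :=
  g66.step th c67

theorem g68 : G1 M23.ρ L23.x 31671 t68 :=
  g67.step th c68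

theorem g69 : G1 M23.ρ L23.x 31671 t69 :=
  g68.step th c69

theorem g70 : G1 M23.ρ L23.x 31671 t70 :=
  g69.step th c70

theorem g71 : G1 M23.ρ L23.x 31671 t71 :=
  g70.step th c71

theorem g72 : G1 M23.ρ L23.x 31671 t72 :=
  g71.step th c72

theorem g73 : G1 M23.ρ L23.x 31671 t73 :=
  g72.step th c73

theorem g74 : G1 M23.ρ L23.x 31671 t74 :=
  g73.step th c74

theorem g75 : G1 M23.ρ L23.x 31671 t75 :=
  g74.step th c75

theorem g76 : G1 M23.ρ L23.x 31671 t76 :=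
  g75.step th c76

theorem g77 : G1 M23.ρ L23.x 31671 t77 :=
  g76.step th c77

theorem g78 : G1 M23.ρ L23.x 31671 t78 :=
  g77.step th c78

theorem g79 : G1 M23.ρ L23.x 31671 t79 :=
  g78.step th c79

theorem g80 : G1 M23.ρ L23.x 31671 t80 :=
  g79.step th c80

theorem g81 : G1 M23.ρ L23.x 31671 t81 :=
  g80.step th c81

theorem g82 : G1 M23.ρ L23.x 31671 t82 :=
  g81.step th c82

theorem g83 : G1 M23.ρ L23.x 31671 t83 :=
  g82.step th c83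

theorem g84 : G1 M23.ρ L23.x 31671 t84 :=
  g83.step th c84

theorem g85 : G1 M23.ρ L23.x 31671 t85 :=
  g84.step th c85

theorem g86 : G1 M23.ρ L23.x 31671 t86 :=
  g85.step th c86

theorem g87 : G1 M23.ρ L23.x 31671 t87 :=
  g86.step th c87

theorem g88 : G1 M23.ρ L23.x 31671 t88 :=
  g87.step th c88

theorem g89 : G1 M23.ρ L23.x 31671 t89 :=
  g88.step th c89

theorem g90 : G1 M23.ρ L23.x 31671 t90 :=
  g89.step th c90

theorem g91 : G1 M23.ρ L23.x 31671 t91 :=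
  g90.step th c91

theorem g92 : G1 M23.ρ L23.x 31671 t92 :=
  g91.step th c92

theorem g93 : G1 M23.ρ L23.x 31671 t93 :=
  g92.step th c93

theorem g94 : G1 M23.ρ L23.x 31671 t94 :=
  g93.step th c94

theorem g95 : G1 M23.ρ L23.x 31671 t95 :=
  g94.step th c95

theorem w96 : GW M23.ρ L23.x 31671 t96 [9, 4, 8, 5, 1, 6, 9, 2, 7, 4, 5, 3, 1, 2, 1, 8, 6, 4, 3, 7, 9, 2, 6, 1, 7, 4, 5, 3, 8, 9, 3, 2, 4, 5, 8, 3, 2, 6] :=
  gid.step th c96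

theorem w97 : GW M23.ρ L23.x 31671 t97 [6, 2, 3, 8, 5, 4, 2, 3, 9, 8, 3, 5, 4, 7, 1, 6, 2, 9, 7, 3, 4, 6, 8, 1, 2, 1, 3, 5, 4, 7, 2, 9, 6, 1, 5, 8, 4, 9] :=
  gid.step th c97

theorem w98 : GW M23.ρ L23.x 31671 t98 [7, 2, 1, 5, 3, 8, 4, 6, 2, 3, 9, 4, 1, 7, 5, 8, 2, 4, 9, 6, 7, 1, 2, 8, 9, 1, 6, 5, 6, 7, 8, 3, 2, 5, 9, 8, 3, 4, 6] :=
  gid.step th c98

theorem w99 : GW M23.ρ L23.x 31671 t99 [6, 4, 3, 8, 9, 5, 2, 3, 8, 7, 6, 5, 6, 1, 9, 8, 2, 1, 7, 6, 9, 4, 2, 8, 5, 7, 1, 4, 9, 3, 2, 6, 4, 8, 3, 5, 1, 2, 7] :=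
  gid.step th c99

theorem w100 : GW M23.ρ L23.x 31671 t100 [8, 6, 7, 4, 9, 3, 2, 3, 4, 8, 2, 9, 5, 4, 1, 3, 2, 5, 6, 7, 8, 9, 8, 3, 4, 2, 1, 5, 9, 8, 6, 2, 9, 1, 8, 7, 4, 3, 6, 2] :=
  gid.step th c100

theorem w101 : GW M23.ρ L23.x 31671 t101 [2, 6, 3, 4, 7, 8, 1, 9, 2, 6, 8, 9, 5, 1, 2, 4, 3, 8, 9, 8, 7, 6, 5, 2, 3, 1, 4, 5, 9, 2, 8, 4, 3, 2, 3, 9, 4, 7, 6, 8] :=
  gid.step th c101

theorem w102 : GW M23.ρ L23.x 31671 t102 [5, 2, 1, 8, 9, 7, 6, 3, 4, 5, 2, 7, 4, 1, 3, 2, 1, 6, 5, 3, 4, 8, 9, 3, 8, 5, 9, 6, 2, 5, 4, 1, 8, 7, 6, 2] :=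
  gid.step th c102

theorem w103 : GW M23.ρ L23.x 31671 t103 [2, 6, 7, 8, 1, 4, 5, 2, 6, 9, 5, 8, 3, 9, 8, 4, 3, 5, 6, 1, 2, 3, 1, 4, 7, 2, 5, 4, 3, 6, 7, 9, 8, 1, 2, 5] :=
  gid.step th c103

theorem w104 : GW M23.ρ L23.x 31671 t104 [3, 2, 9, 8, 5, 4, 6, 1, 7, 6, 7, 3, 8, 2, 6, 9, 4, 1, 8, 5, 3, 2, 9, 1, 7, 4, 8, 9, 8, 2, 3, 9, 5, 6, 1, 2, 3, 8, 7] :=
  gid.step th c104

theorem w105 : GW M23.ρ L23.x 31671 t105 [7, 8, 3, 2, 1, 6, 5, 9, 3, 2, 8, 9, 8, 4, 7, 1, 9, 2, 3, 5, 8, 1, 4, 9, 6, 2, 8, 3, 7, 6, 7, 1, 6, 4, 5, 8, 9, 2, 3] :=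
  gid.step th c105

theorem w106 : GW M23.ρ L23.x 31671 t106 [7, 9, 3, 1, 8, 4, 5, 2, 4, 9, 3, 1, 2, 5, 4, 1, 2, 1, 5, 3, 8, 4, 3, 9, 8, 9, 8, 2, 3, 5, 4, 2, 5, 4, 8, 6, 9] :=
  gid.step th c106

theorem w107 : GW M23.ρ L23.x 31671 t107 [9, 6, 8, 4, 5, 2, 4, 5, 3, 2, 8, 9, 8, 9, 3, 4, 8, 3, 5, 1, 2, 1, 4, 5, 2, 1, 3, 9, 4, 2, 5, 4, 8, 1, 3, 9, 7] :=
  gid.step th c107

theorem w108 : GW M23.ρ L23.x 31671 t108 [9, 1, 2, 3, 7, 4, 6, 5, 3, 7, 1, 4, 2, 1, 5, 8, 6, 7, 3, 9, 2, 4, 1, 8, 6, 9, 3, 7, 5, 2, 8, 6, 5, 9, 7, 3, 8] :=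
  gid.step th c108

theorem w109 : GW M23.ρ L23.x 31671 t109 [8, 3, 7, 9, 5, 6, 8, 2, 5, 7, 3, 9, 6, 8, 1, 4, 2, 9, 3, 7, 6, 8, 5, 1, 2, 4, 1, 7, 3, 5, 6, 4, 7, 3, 2, 1, 9] :=
  gid.step th c109

theorem w110 : GW M23.ρ L23.x 31671 t110 [6, 8, 2, 5, 3, 4, 3, 8, 6, 2, 1, 5, 9, 7, 8, 3, 2, 4, 6, 5, 9, 1, 3, 8, 7, 6, 9, 2, 7, 8, 4, 1, 5, 3, 2, 9, 6] :=
  gid.step th c110

theorem w111 : GW M23.ρ L23.x 31671 t111 [6, 9, 2, 3, 5, 1, 4, 8, 7, 2, 9, 6, 7, 8, 3, 1, 9, 5, 6, 4, 2, 3, 8, 7, 9, 5, 1, 2, 6, 8, 3, 4, 3, 5, 2, 8, 6] :=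
  gid.step th c111

theorem w112 : GW M23.ρ L23.x 31671 t112 [9, 4, 1, 3, 2, 0, 6, 8, 3, 1, 4, 7, 2, 6, 5, 6, 1, 3, 2, 4, 7, 8, 5, 1, 4, 9, 6, 0, 3, 7, 2, 4, 5, 4, 5, 6, 7, 1] :=
  gid.step th c112

theorem w113 : GW M23.ρ L23.x 31671 t113 [1, 7, 6, 5, 4, 5, 4, 2, 7, 3, 0, 6, 9, 4, 1, 5, 8, 7, 4, 2, 3, 1, 6, 5, 6, 2, 7, 4, 1, 3, 8, 6, 0, 2, 3, 1, 4, 9] :=
  gid.step th c113

theorem w114 : GW M23.ρ L23.x 31671 t114 [4, 9, 2, 0, 8, 1, 6, 5, 9, 8, 0, 7, 6, 4, 5, 6, 4, 1, 3, 4, 7, 8, 6, 5, 3, 0, 6, 2, 8, 4, 9, 5, 1, 4, 0, 2, 8, 7, 1, 3, 6, 9, 5] :=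
  gid.step th c114

theorem w115 : GW M23.ρ L23.x 31671 t115 [5, 9, 6, 3, 1, 7, 8, 2, 0, 4, 1, 5, 9, 4, 8, 2, 6, 0, 3, 5, 6, 8, 7, 4, 3, 1, 4, 6, 5, 4, 6, 7, 0, 8, 9, 5, 6, 1, 8, 0, 2, 9, 4] :=
  gid.step th c115

theorem w116 : GW M23.ρ L23.x 31671 t116 [4, 6, 9, 0, 2, 1, 5, 8, 7, 6, 3, 4, 8, 2, 1, 7, 5, 2, 6, 0, 3, 9, 1, 4, 8, 7, 9, 5, 6, 5, 8, 6, 7, 4, 0, 2, 3, 5] :=
  gid.step th c116

theorem w117 : GW M23.ρ L23.x 31671 t117 [5, 3, 2, 0, 4, 7, 6, 8, 5, 6, 5, 9, 7, 8, 4, 1, 9, 3, 0, 6, 2, 5, 7, 1, 2, 8, 4, 3, 6, 7, 8, 5, 1, 2, 0, 9, 6, 4] :=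
  gid.step th c117

theorem w118 : GW M23.ρ L23.x 31671 t118 [5, 9, 1, 2, 7, 4, 3, 6, 0, 8, 5, 7, 9, 1, 4, 8, 6, 0, 5, 3, 7, 2, 4, 6, 8, 9, 3, 5, 2, 3, 4, 7, 6, 1, 8, 9, 0, 3, 5, 7, 4, 8] :=
  gid.step th c118

theorem w119 : GW M23.ρ L23.x 31671 t119 [8, 4, 7, 5, 3, 0, 9, 8, 1, 6, 7, 4, 3, 2, 5, 3, 9, 8, 6, 4, 2, 7, 3, 5, 0, 6, 8, 4, 1, 9, 7, 5, 8, 0, 6, 3, 4, 7, 2, 1, 9, 5] :=
  gid.step th c119

noncomputable def tM : Tr := (.n (.n (.n (.n (.n (.n (.n (.l t0) (.l t64)) (.n (.l t32) (.l tid))) (.n (.n (.l t16) (.l t80)) (.n (.l t48) (.l tid)))) (.n (.n (.n (.l t8) (.l t72)) (.n (.l t40) (.l tid))) (.n (.n (.l t24) (.l t88)) (.n (.l t56) (.l tid))))) (.n (.n (.n (.n (.l t4) (.l t68)) (.n (.l t36) (.l tid))) (.n (.n (.l t20) (.l t84)) (.n (.l t52) (.l tid)))) (.n (.n (.n (.l t12) (.l t76)) (.n (.l t44) (.l tid))) (.n (.n (.l t28) (.l t92)) (.n (.l t60)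 (.l tid)))))) (.n (.n (.n (.n (.n (.l t2) (.l t66)) (.n (.l t34) (.l tid))) (.n (.n (.l t18) (.l t82)) (.n (.l t50) (.l tid)))) (.n (.n (.n (.l t10) (.l t74)) (.n (.l t42) (.l tid))) (.n (.n (.l t26) (.l t90)) (.n (.l t58) (.l tid))))) (.n (.n (.n (.n (.l t6) (.l t70)) (.n (.l t38) (.l tid))) (.n (.n (.l t22) (.l t86)) (.n (.l t54) (.l tid)))) (.n (.n (.n (.l t14) (.l t78)) (.n (.l t46) (.l tid))) (.n (.n (.l t30) (.l t94)) (.n (.l t62) (.l tid))))))) (.n (.n (.n (.n (.n (.n (.l t1) (.l t65)) (.n (.l t33) (.l tid))) (.n (.n (.l t17) (.l t81)) (.n (.l t49) (.l tid)))) (.n (.n (.n (.l t9) (.l t73)) (.n (.l t41) (.l tid))) (.n (.n (.l t25) (.l t89)) (.n (.l t57) (.l tid))))) (.n (.n (.n (.n (.l t5) (.l t69)) (.n (.l t37) (.l tid))) (.n (.n (.l t21) (.l t85)) (.n (.l t53) (.l tid)))) (.n (.n (.n (.l t13) (.l t77)) (.n (.l t45) (.l tid))) (.n (.n (.l t29) (.l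 t93)) (.n (.l t61) (.l tid)))))) (.n (.n (.n (.n (.n (.l t3) (.l t67)) (.n (.l t35) (.l tid))) (.n (.n (.l t19) (.l t83)) (.n (.l t51) (.l tid)))) (.n (.n (.n (.l t11) (.l t75)) (.n (.l t43) (.l tid))) (.n (.n (.l t27) (.l t91)) (.n (.l t59) (.l tid))))) (.n (.n (.n (.n (.l t7) (.l t71)) (.n (.l t39) (.l tid))) (.n (.n (.l t23) (.l t87)) (.n (.l t55) (.l tid)))) (.n (.n (.n (.l t15) (.l t79)) (.n (.l t47) (.l tid))) (.n (.n (.l t31) (.l t95)) (.n (.l t63) (.l tid))))))))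

noncomputable def tK : Tr := (.n (.n (.n (.n (.n (.n (.l t1) (.l t33)) (.n (.l t17) (.l t49))) (.n (.n (.l t9) (.l t41)) (.n (.l t25) (.l t57)))) (.n (.n (.n (.l t5) (.l t37)) (.n (.l t21) (.l t53))) (.n (.n (.l t13) (.l t45)) (.n (.l t29) (.l t61))))) (.n (.n (.n (.n (.l t3) (.l t35)) (.n (.l t19) (.l t51))) (.n (.n (.l t11) (.l t43)) (.n (.l t27) (.l t59)))) (.n (.n (.n (.l t7) (.l t39)) (.n (.l t23) (.l t55))) (.n (.n (.l t15) (.l t47)) (.n (.l t31) (.l t63)))))) (.n (.n (.n (.n (.n (.l t2) (.l t34)) (.n (.l t18) (.l t50))) (.n (.n (.l t10) (.l t42)) (.n (.l t26) (.l t58)))) (.n (.n (.n (.l t6) (.l t38)) (.n (.l t22) (.l t54))) (.n (.n (.l t14) (.l t46)) (.n (.l t30) (.l t62))))) (.n (.n (.n (.n (.l t4) (.l t36)) (.n (.l t20) (.l t52))) (.n (.n (.l t12) (.l t44)) (.n (.l t28) (.l t60)))) (.n (.n (.n (.l t8) (.l t40)) (.n (.l t24) (.l t56))) (.n (.n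 (.l t16) (.l t48)) (.n (.l t32) (.l tid)))))))

noncomputable def tT : Tr := (.n (.n (.n (.n (.n (.n (.l t9) (.l t32)) (.n (.l t16) (.l t48))) (.n (.n (.l t1) (.l t40)) (.n (.l t24) (.l t56)))) (.n (.n (.n (.l t5) (.l t36)) (.n (.l t20) (.l t52))) (.n (.n (.l t12) (.l t44)) (.n (.l t28) (.l t60))))) (.n (.n (.n (.n (.l t3) (.l t34)) (.n (.l t18) (.l t50))) (.n (.n (.l t10) (.l t42)) (.n (.l t26) (.l t58)))) (.n (.n (.n (.l t7) (.l t38)) (.n (.l t22) (.l t54))) (.n (.n (.l t14) (.l t46)) (.n (.l t30) (.l t62)))))) (.n (.n (.n (.n (.n (.l t8) (.l t35)) (.n (.l t19) (.l t51))) (.n (.n (.l t11) (.l t43)) (.n (.l t27) (.l t59)))) (.n (.n (.n (.l t6) (.l t39)) (.n (.l t23) (.l t55))) (.n (.n (.l t15) (.l t47)) (.n (.l t31) (.l t63))))) (.n (.n (.n (.n (.l t4) (.l t37)) (.n (.l t21) (.l t53))) (.n (.n (.l t13) (.l t45)) (.n (.l t29) (.l t61)))) (.n (.n (.n (.l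 t2) (.l t41)) (.n (.l t25) (.l t57))) (.n (.n (.l t17) (.l t49)) (.n (.l t33) (.l tid)))))))

theorem aM : Tr.All2 (fun T _ => G1 M23.ρ L23.x 31671 T) tM tM :=
  (.node (.node (.node (.node (.node (.node (.node (.leaf g0) (.leaf g64)) (.node (.leaf g32) (.leaf ⟨_, gid⟩))) (.node (.node (.leaf g16) (.leaf g80)) (.node (.leaf g48) (.leaf ⟨_, gid⟩)))) (.node (.node (.node (.leaf g8) (.leaf g72)) (.node (.leaf g40) (.leaf ⟨_, gid⟩))) (.node (.node (.leaf g24) (.leaf g88)) (.node (.leaf g56) (.leaf ⟨_, gid⟩))))) (.node (.node (.node (.node (.leaf g4) (.leaf g68)) (.node (.leaf g36) (.leaf ⟨_, gid⟩))) (.node (.node (.leaf g20) (.leaf g84)) (.node (.leaf g52) (.leaf ⟨_, gid⟩)))) (.node (.node (.node (.leaf g12) (.leaf g76)) (.node (.leaf g44) (.leaf ⟨_, gid⟩))) (.node (.node (.leaf g28) (.leaf g92)) (.node (.leaf g60) (.leaf ⟨_, gid⟩)))))) (.node (.node (.node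 (.node (.node (.leaf g2) (.leaf g66)) (.node (.leaf g34) (.leaf ⟨_, gid⟩))) (.node (.node (.leaf g18) (.leaf g82)) (.node (.leaf g50) (.leaf ⟨_, gid⟩)))) (.node (.node (.node (.leaf g10) (.leaf g74)) (.node (.leaf g42) (.leaf ⟨_, gid⟩))) (.node (.node (.leaf g26) (.leaf g90)) (.node (.leaf g58) (.leaf ⟨_, gid⟩))))) (.node (.node (.node (.node (.leaf g6) (.leaf g70)) (.node (.leaf g38) (.leaf ⟨_, gid⟩))) (.node (.node (.leaf g22) (.leaf g86)) (.node (.leaf g54) (.leaf ⟨_, gid⟩)))) (.node (.node (.node (.leaf g14) (.leaf g78)) (.node (.leaf g46) (.leaf ⟨_, gid⟩))) (.node (.node (.leaf g30) (.leaf g94)) (.node (.leaf g62) (.leaf ⟨_, gid⟩))))))) (.node (.node (.node (.node (.node (.node (.leaf g1) (.leaf g65)) (.node (.leaf g33) (.leaf ⟨_, gid⟩))) (.node (.node (.leaf g17) (.leaf g81)) (.node (.leaf g49) (.leaf ⟨_, gid⟩)))) (.node (.node (.node (.leaf g9) (.leaf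 g73)) (.node (.leaf g41) (.leaf ⟨_, gid⟩))) (.node (.node (.leaf g25) (.leaf g89)) (.node (.leaf g57) (.leaf ⟨_, gid⟩))))) (.node (.node (.node (.node (.leaf g5) (.leaf g69)) (.node (.leaf g37) (.leaf ⟨_, gid⟩))) (.node (.node (.leaf g21) (.leaf g85)) (.node (.leaf g53) (.leaf ⟨_, gid⟩)))) (.node (.node (.node (.leaf g13) (.leaf g77)) (.node (.leaf g45) (.leaf ⟨_, gid⟩))) (.node (.node (.leaf g29) (.leaf g93)) (.node (.leaf g61) (.leaf ⟨_, gid⟩)))))) (.node (.node (.node (.node (.node (.leaf g3) (.leaf g67)) (.node (.leaf g35) (.leaf ⟨_, gid⟩))) (.node (.node (.leaf g19) (.leaf g83)) (.node (.leaf g51) (.leaf ⟨_, gid⟩)))) (.node (.node (.node (.leaf g11) (.leaf g75)) (.node (.leaf g43) (.leaf ⟨_, gid⟩))) (.node (.node (.leaf g27) (.leaf g91)) (.node (.leaf g59) (.leaf ⟨_, gid⟩))))) (.node (.node (.node (.node (.leaf g7) (.leaf g71)) (.node (.leaf g39) (.leaf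 ⟨_, gid⟩))) (.node (.node (.leaf g23) (.leaf g87)) (.node (.leaf g55) (.leaf ⟨_, gid⟩)))) (.node (.node (.node (.leaf g15) (.leaf g79)) (.node (.leaf g47) (.leaf ⟨_, gid⟩))) (.node (.node (.leaf g31) (.leaf g95)) (.node (.leaf g63) (.leaf ⟨_, gid⟩))))))))

theorem aK : Tr.All2 (G2 M23.ρ L23.x 31671 ks θ) tK tT :=
  (.node (.node (.node (.node (.node (.node (.leaf p1) (.leaf p33)) (.node (.leaf p17) (.leaf p49))) (.node (.node (.leaf p9) (.leaf p41)) (.node (.leaf p25) (.leaf p57)))) (.node (.node (.node (.leaf p5) (.leaf p37)) (.node (.leaf p21) (.leaf p53))) (.node (.node (.leaf p13) (.leaf p45)) (.node (.leaf p29) (.leaf p61))))) (.node (.node (.node (.node (.leaf p3) (.leaf p35)) (.node (.leaf p19) (.leaf p51))) (.node (.node (.leaf p11) (.leaf p43)) (.node (.leaf p27) (.leaf p59)))) (.node (.node (.node (.leaf p7) (.leaf p39)) (.node (.leaf p23) (.leaf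 p55))) (.node (.node (.leaf p15) (.leaf p47)) (.node (.leaf p31) (.leaf p63)))))) (.node (.node (.node (.node (.node (.leaf p2) (.leaf p34)) (.node (.leaf p18) (.leaf p50))) (.node (.node (.leaf p10) (.leaf p42)) (.node (.leaf p26) (.leaf p58)))) (.node (.node (.node (.leaf p6) (.leaf p38)) (.node (.leaf p22) (.leaf p54))) (.node (.node (.leaf p14) (.leaf p46)) (.node (.leaf p30) (.leaf p62))))) (.node (.node (.node (.node (.leaf p4) (.leaf p36)) (.node (.leaf p20) (.leaf p52))) (.node (.node (.leaf p12) (.leaf p44)) (.node (.leaf p28) (.leaf p60)))) (.node (.node (.node (.leaf p8) (.leaf p40)) (.node (.leaf p24) (.leaf p56))) (.node (.node (.leaf p16) (.leaf p48)) (.node (.leaf p32) (.leaf (g2_id gid))))))))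

noncomputable def Ts : List ℕ := [t0, t1, t2, t3, t4, t5, t6, t7, t8, t9, t96, t97, t98, t99, t100, t101, t102, t103, t104, t105, t106, t107, t108, t109, t110, t111, t112, t113, t114, t115, t116, t117, t118, t119]

theorem aV : AllG M23.ρ L23.x 31671 Ts us :=
  (.cons w0 (.cons w1 (.cons w2 (.cons w3 (.cons w4 (.cons w5 (.cons w6 (.cons w7 (.cons w8 (.cons w9 (.cons w96 (.cons w97 (.cons w98 (.cons w99 (.cons w100 (.cons w101 (.cons w102 (.cons w103 (.cons w104 (.cons w105 (.cons w106 (.cons w107 (.cons w108 (.cons w109 (.cons w110 (.cons w111 (.cons w112 (.cons w113 (.cons w114 (.cons w115 (.cons w116 (.cons w117 (.cons w118 (.cons w119 trivial))))))))))))))))))))))))))))))))))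

def o5 : S5 := ⟨11246, 3, 2, 1, 0⟩

theorem tm : TM (tab5 31671 tM) M23.ρ o5.lst :=
  tm5 th M23.model.base (by decide) aM

theorem let0 : lets (tab5 31671 tM) M23.ρ 0 = L23.x 0 :=
  (lets_of_gw tm (by decide) (W := [0]) (show GW _ _ _ t0 _ from w0)).trans (mul_one _)

end Cfsg.Agent.Spor.BC
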