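import Cfsg.Agent.Spor.B.TabB

set_option autoImplicit false
set_option Elab.async false
set_option maxRecDepth 100000

namespace Cfsg.Agent.Spor.BC

open Cfsg.Agent.Comp.BN Cfsg.Agent.Comp.DCE Cfsg.Agent.Spor.FiC

theorem c0 : tabC M23.act [0] tid t0 = true :=
  by decide +kernel

theorem c1 : tabC M23.act [1] tid t1 = true :=
  by decide +kernel

theorem k1 : tabC M23.act (List.map θ [1]) tid t9 = true :=
  by decide +kernel

theorem c2 : tabC M23.act [2] tid t2 = true :=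
  by decide +kernel

theorem k2 : tabC M23.act (List.map θ [2]) tid t8 = true :=
  by decide +kernel

theorem c3 : tabC M23.act [3] tid t3 = true :=
  by decide +kernel

theorem k3 : tabC M23.act (List.map θ [3]) tid t3 = true :=
  by decide +kernel

theorem c4 : tabC M23.act [4] tid t4 = true :=
  by decide +kernel

theorem k4 : tabC M23.act (List.map θ [4]) tid t4 = true :=
  by decide +kernel

theorem c5 : tabC M23.act [5] tid t5 = true :=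
  by decide +kernel

theorem k5 : tabC M23.act (List.map θ [5]) tid t5 = true :=
  by decide +kernel

theorem c6 : tabC M23.act [6] tid t6 = true :=
  by decide +kernel

theorem k6 : tabC M23.act (List.map θ [6]) tid t6 = true :=
  by decide +kernel

theorem c7 : tabC M23.act [7] tid t7 = true :=
  by decide +kernel

theorem k7 : tabC M23.act (List.map θ [7]) tid t7 = true :=
  by decide +kernel

theorem c8 : tabC M23.act [8] tid t8 = true :=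
  by decide +kernel

theorem k8 : tabC M23.act (List.map θ [8]) tid t2 = true :=
  by decide +kernel

theorem c9 : tabC M23.act [9] tid t9 = true :=
  by decide +kernel

theorem k9 : tabC M23.act (List.map θ [9]) tid t1 = true :=
  by decide +kernel

theorem c10 : tabC M23.act [9, 3, 1, 2, 1, 5, 3, 8, 9, 3, 2, 1, 2, 3, 4, 8, 1, 2, 9, 8, 3, 8, 2, 5, 4, 1, 9, 3, 5, 4, 2] tid t10 = true :=
  by decide +kernel

theorem c11 : tabC M23.act (List.map θ [9, 3, 1, 2, 1, 5, 3, 8, 9, 3, 2, 1, 2, 3, 4, 8, 1, 2, 9, 8, 3, 8, 2, 5, 4, 1, 9, 3, 5, 4, 2]) tid t11 = true :=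
  by decide +kernel

theorem c12 : tabC M23.act [4, 8, 5, 9, 2, 4, 1, 3, 5, 8, 2, 9, 3, 1, 4, 5] t10 t12 = true :=
  by decide +kernel

theorem c13 : tabC M23.act (List.map θ [4, 8, 5, 9, 2, 4, 1, 3, 5, 8, 2, 9, 3, 1, 4, 5]) t11 t13 = true :=
  by decide +kernel

theorem c14 : tabC M23.act [5, 4, 9, 2, 8, 1, 3, 4, 9, 5, 3, 8, 9, 3, 8, 2, 4] t12 t14 = true :=
  by decide +kernel

theorem c15 : tabC M23.act (List.map θ [5, 4, 9, 2, 8, 1, 3, 4, 9, 5, 3, 8, 9, 3, 8, 2, 4]) t13 t15 = true :=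
  by decide +kernel

theorem c16 : tabC M23.act [9, 3, 8, 2, 4, 5, 9, 3, 4, 8, 2, 3, 9, 2, 5, 8] t14 t16 = true :=
  by decide +kernel

theorem c17 : tabC M23.act (List.map θ [9, 3, 8, 2, 4, 5, 9, 3, 4, 8, 2, 3, 9, 2, 5, 8]) t15 t17 = true :=
  by decide +kernel

theorem c18 : tabC M23.act [4, 9, 5, 2, 8, 4, 3, 5, 1, 4, 2, 8, 9, 5, 1, 3] t16 t18 = true :=
  by decide +kernel

theorem c19 : tabC M23.act (List.map θ [4, 9, 5, 2, 8, 4, 3, 5, 1, 4, 2, 8, 9, 5, 1, 3]) t17 t19 = true :=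
  by decide +kernel

theorem c20 : tabC M23.act [2, 8, 4, 9, 5, 1, 2, 3, 1, 4, 8, 3, 2, 4, 3, 5, 8, 1] t18 t20 = true :=
  by decide +kernel

theorem c21 : tabC M23.act (List.map θ [2, 8, 4, 9, 5, 1, 2, 3, 1, 4, 8, 3, 2, 4, 3, 5, 8, 1]) t19 t21 = true :=
  by decide +kernel

theorem c22 : tabC M23.act [2, 8, 3, 1, 9, 5, 4, 3, 2, 1, 5, 8, 3, 2, 1, 3, 9, 4] t20 t22 = true :=
  by decide +kernel

theorem c23 : tabC M23.act (List.map θ [2, 8, 3, 1, 9, 5, 4, 3, 2, 1, 5, 8, 3, 2, 1, 3, 9, 4]) t21 t23 = true :=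
  by decide +kernel

theorem c24 : tabC M23.act [2, 5, 8, 9, 3, 1, 4, 8, 3, 5, 9, 2, 8, 9, 4, 3, 2, 8, 5, 4, 1, 9] t22 t24 = true :=
  by decide +kernel

theorem c25 : tabC M23.act (List.map θ [2, 5, 8, 9, 3, 1, 4, 8, 3, 5, 9, 2, 8, 9, 4, 3, 2, 8, 5, 4, 1, 9]) t23 t25 = true :=
  by decide +kernel

theorem c26 : tabC M23.act [9, 5, 2, 4, 1, 3, 8, 2, 9, 3, 1, 2, 5, 8, 4, 9, 1] t24 t26 = true :=
  by decide +kernel

theorem c27 : tabC M23.act (List.map θ [9, 5, 2, 4, 1, 3, 8, 2, 9, 3, 1, 2, 5, 8, 4, 9, 1]) t25 t27 = true :=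
  by decide +kernel

theorem c28 : tabC M23.act [1, 4, 2, 9, 3, 2, 5, 4, 1, 2, 8, 5, 4, 3, 1, 5, 4, 2, 8] t26 t28 = true :=
  by decide +kernel

theorem c29 : tabC M23.act (List.map θ [1, 4, 2, 9, 3, 2, 5, 4, 1, 2, 8, 5, 4, 3, 1, 5, 4, 2, 8]) t27 t29 = true :=
  by decide +kernel

theorem c30 : tabC M23.act [1, 9, 5, 8, 3, 2, 4, 9, 3, 5, 8, 4, 1, 2, 3, 9, 4, 5] t28 t30 = true :=
  by decide +kernel

theorem c31 : tabC M23.act (List.map θ [1, 9, 5, 8, 3, 2, 4, 9, 3, 5, 8, 4, 1, 2, 3, 9, 4, 5]) t29 t31 = true :=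
  by decide +kernel

theorem c32 : tabC M23.act [1, 9, 2, 3, 4, 5, 4, 3, 1, 2, 3, 1, 5, 8, 4, 3, 9, 5, 2] t30 t32 = true :=
  by decide +kernel

theorem c33 : tabC M23.act (List.map θ [1, 9, 2, 3, 4, 5, 4, 3, 1, 2, 3, 1, 5, 8, 4, 3, 9, 5, 2]) t31 t33 = true :=
  by decide +kernel

theorem c34 : tabC M23.act [5, 8, 1, 4, 3, 5, 4, 3, 8, 2, 1, 4, 5, 2, 3, 8] t32 t34 = true :=
  by decide +kernel

theorem c35 : tabC M23.act (List.map θ [5, 8, 1, 4, 3, 5, 4, 3, 8, 2, 1, 4, 5, 2, 3, 8]) t33 t35 = true :=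
  by decide +kernel

theorem c36 : tabC M23.act [1, 3, 5, 9, 4, 2, 3, 5, 1, 8, 9, 3, 4, 3, 8, 9] t34 t36 = true :=
  by decide +kernel

theorem c37 : tabC M23.act (List.map θ [1, 3, 5, 9, 4, 2, 3, 5, 1, 8, 9, 3, 4, 3, 8, 9]) t35 t37 = true :=
  by decide +kernel

theorem c38 : tabC M23.act [4, 5, 9, 3, 2, 8, 3, 8, 9, 1, 4, 5, 2, 3, 1, 2, 4, 1] t36 t38 = true :=
  by decide +kernel

theorem c39 : tabC M23.act (List.map θ [4, 5, 9, 3, 2, 8, 3, 8, 9, 1, 4, 5, 2, 3, 1, 2, 4, 1]) t37 t39 = true :=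
  by decide +kernel

theorem c40 : tabC M23.act [6, 1, 7, 9, 3, 4, 3, 8, 4, 2, 1, 3, 5, 6, 2, 9, 8, 7, 4, 1, 3, 5, 6, 9, 4, 8, 5, 7, 4, 6] t38 t40 = true :=
  by decide +kernel

theorem c41 : tabC M23.act (List.map θ [6, 1, 7, 9, 3, 4, 3, 8, 4, 2, 1, 3, 5, 6, 2, 9, 8, 7, 4, 1, 3, 5, 6, 9, 4, 8, 5, 7, 4, 6]) t39 t41 = true :=
  by decide +kernel

theorem c42 : tabC M23.act [9, 2, 8, 4, 6, 5, 1, 3, 4, 2, 3, 8, 7, 1, 9, 6, 8, 3, 4, 7] t40 t42 = true :=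
  by decide +kernel

theorem c43 : tabC M23.act (List.map θ [9, 2, 8, 4, 6, 5, 1, 3, 4, 2, 3, 8, 7, 1, 9, 6, 8, 3, 4, 7]) t41 t43 = true :=
  by decide +kernel

theorem c44 : tabC M23.act [2, 6, 4, 1, 7, 3, 6, 2, 9, 1, 8, 5, 4, 5, 6, 9, 3, 2] t42 t44 = true :=
  by decide +kernel

theorem c45 : tabC M23.act (List.map θ [2, 6, 4, 1, 7, 3, 6, 2, 9, 1, 8, 5, 4, 5, 6, 9, 3, 2]) t43 t45 = true :=
  by decide +kernel

theorem c46 : tabC M23.act [2, 8, 3, 9, 5, 7, 1, 4, 2, 3, 8, 9, 4, 8, 1, 6, 5, 3] t44 t46 = true :=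
  by decide +kernel

theorem c47 : tabC M23.act (List.map θ [2, 8, 3, 9, 5, 7, 1, 4, 2, 3, 8, 9, 4, 8, 1, 6, 5, 3]) t45 t47 = true :=
  by decide +kernel

theorem c48 : tabC M23.act [4, 8, 5, 1, 9, 3, 6, 2, 7, 6, 5, 8, 1, 7, 2, 3, 9, 8, 6, 7, 5] t46 t48 = true :=
  by decide +kernel

theorem c49 : tabC M23.act (List.map θ [4, 8, 5, 1, 9, 3, 6, 2, 7, 6, 5, 8, 1, 7, 2, 3, 9, 8, 6, 7, 5]) t47 t49 = true :=
  by decide +kernel

theorem c50 : tabC M23.act [6, 3, 4, 9, 5, 1, 8, 6, 7, 4, 2, 3, 9, 5, 6, 4] t48 t50 = true :=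
  by decide +kernel

theorem c51 : tabC M23.act (List.map θ [6, 3, 4, 9, 5, 1, 8, 6, 7, 4, 2, 3, 9, 5, 6, 4]) t49 t51 = true :=
  by decide +kernel

end Cfsg.Agent.Spor.BC
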